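import Mathlib

/-!
No symmetric difference set in a dihedral group with rotation part stable under a subgroup of prime order.
-/

set_option autoImplicit false
set_option maxRecDepth 10000

namespace CfsgLib.SchurDihedral

variable {m : ℕ} [NeZero m]

abbrev Q (m : ℕ) := AddMonoidAlgebra ℤ (ZMod m)

noncomputable def mk (f : ZMod m → ℤ) : Q m := AddMonoidAlgebra.ofCoeff (Finsupp.equivFunOnFinite.symm f)

theorem mk_coeff (f : ZMod m → ℤ) (c : ZMod m) : (mk f).coeff c = f c := by simp [mk]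

theorem coeff_conv (f g : Q m) (c : ZMod m) : (f * g).coeff c = ∑ i, f.coeff i * g.coeff (c - i) := by
  classical
  rw [AddMonoidAlgebra.coeff_mul, Finsupp.sum_fintype _ _ (fun _ => by simp)]
  refine Finset.sum_congr rfl fun i _ => ?_
  rw [Finsupp.sum_fintype _ _ (fun _ => by simp)]
  simp only [show ∀ w : ZMod m, (i + w = c) ↔ (w = c - i) from fun w => eq_sub_iff_add_eq'.symm]
  rw [Finset.sum_ite_eq' Finset.univ, if_pos (Finset.mem_univ _)]

theorem coeff_int_mul (n : ℤ) (f : Q m) (c : ZMod m) : ((n : Q m) * f).coeff c = n * f.coeff c := by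
  rw [← zsmul_eq_mul, AddMonoidAlgebra.coeff_smul, Finsupp.smul_apply, smul_eq_mul]

theorem ext_coeff {f g : Q m} (h : ∀ c, f.coeff c = g.coeff c) : f = g :=
  AddMonoidAlgebra.ext (Finsupp.ext h)

theorem one_coeff (c : ZMod m) : (1 : Q m).coeff c = if c = 0 then 1 else 0 := by
  classical
  rw [AddMonoidAlgebra.one_def, AddMonoidAlgebra.coeff_single, Finsupp.single_apply]
  simp [eq_comm]

theorem mk_mul_one (f : ZMod m → ℤ) :
    mk f * mk (fun _ : ZMod m => (1 : ℤ)) = ((∑ i, f i : ℤ) : Q m) * mk (fun _ => 1) := by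
  refine ext_coeff fun c => ?_
  rw [coeff_int_mul, coeff_conv]
  simp [mk_coeff]

theorem int_mul_one_inj {k l : ℤ} (h : (k : Q m) * mk (fun _ => 1) = (l : Q m) * mk (fun _ => 1)) : k = l := by
  have := congrArg (fun f : Q m => f.coeff 0) h
  simpa [coeff_int_mul, mk_coeff] using this

/-- A subgroup indicator. -/
noncomputable def sub (K : AddSubgroup (ZMod m)) : Q m :=
  open Classical in mk fun c => if c ∈ K then 1 else 0

theorem conv_subInd {K : AddSubgroup (ZMod m)} {f : ZMod m → ℤ} (hf : ∀ i, ∀ t ∈ K, f (i + t) = f i) :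
    mk f * sub K = (Nat.card K : Q m) * mk f := by
  classical
  refine ext_coeff fun c => ?_
  rw [show ((Nat.card K : ℕ) : Q m) = (((Nat.card K : ℕ) : ℤ) : Q m) by push_cast; rfl, coeff_int_mul, coeff_conv]
  simp only [sub, mk_coeff, mul_ite, mul_one, mul_zero]
  rw [← Finset.sum_filter]
  have h : ∀ i ∈ Finset.univ.filter (fun i => c - i ∈ K), f i = f c := fun i hi => by
    have := hf i (c - i) (Finset.mem_filter.mp hi).2
    rwa [add_sub_cancel, eq_comm] at this
  rw [Finset.sum_congr rfl h, Finset.sum_const, nsmul_eq_mul]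
  congr 1
  have : Nat.card K = (Finset.univ.filter (fun i => c - i ∈ K)).card := by
    rw [Nat.card_eq_fintype_card, ← Finset.card_univ]
    refine Finset.card_bij (fun t _ => c - (t : ZMod m)) (fun t _ => by simp) (fun t _ s _ h => ?_) (fun i hi => ?_)
    · exact Subtype.ext (sub_right_injective h)
    · exact ⟨⟨c - i, (Finset.mem_filter.mp hi).2⟩, Finset.mem_univ _, by simp⟩
  exact_mod_cast this.symm

/-- The main algebraic consequences. -/
theorem relations (u y : ZMod m → ℤ) (a N : ℤ) (hu01 : ∀ i, u i = 0 ∨ u i = 1) (hy01 : ∀ i, y i = 0 ∨ y i = 1)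
    (husymm : ∀ i, u (-i) = u i) (P : AddSubgroup (ZMod m)) {t : ZMod m} (ht : t ∈ P) (ht0 : t ≠ 0)
    (hst : ∀ i, ∀ t ∈ P, u (i + t) = u i)
    (h1 : ∀ c, (∑ i, u i * u (c - i)) + ∑ i, y i * y (i + c) = a + if c = 0 then N else 0)
    (h2 : ∀ c, 2 * ∑ i, u i * y (c - i) = a) :
    (∑ i, u i - ∑ i, y i) ^ 2 = N ∧ N ≤ ∑ i, y i ∧ (∑ i, u i) + (∑ i, y i) = a + N ∧
      2 * (∑ i, u i) * (∑ i, y i) = a * m ∧
      (Nat.card P : ℤ) * (∑ i, u i) * (m - ∑ i, u i) ≤ N * (m - Nat.card P) ∧
      ∀ K : AddSubgroup (ZMod m), K ≠ ⊤ → (∀ i, u i = 1 → i ∈ K) → 0 < ∑ i, u i → (∑ i, u i) ^ 2 = N := by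
  classical
  set X := ∑ i, u i with hX
  set Y := ∑ i, y i with hY
  set U := mk u with hU
  set W := mk y with hW
  set V := mk (fun i => y (-i)) with hV
  set J := mk (fun _ : ZMod m => (1 : ℤ)) with hJ
  have hYneg : ∑ i, y (-i) = Y := Fintype.sum_equiv (Equiv.neg _) _ _ (fun _ => rfl)
  have hUJ : U * J = (X : Q m) * J := mk_mul_one u
  have hWJ : W * J = (Y : Q m) * J := mk_mul_one y
  have hVJ : V * J = (Y : Q m) * J := by rw [hV, hJ, mk_mul_one, hYneg]
  have hJJ : J * J = ((m : ℤ) : Q m) * J := by rw [hJ, mk_mul_one]; simp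
  have e1 : U * U + V * W = (N : Q m) * 1 + (a : Q m) * J := by
    refine ext_coeff fun c => ?_
    rw [AddMonoidAlgebra.coeff_add, AddMonoidAlgebra.coeff_add, Finsupp.add_apply, Finsupp.add_apply, coeff_conv,
      coeff_conv, coeff_int_mul, coeff_int_mul, one_coeff, hJ, mk_coeff]
    simp only [hU, hV, hW, mk_coeff]
    have : ∑ i, y (-i) * y (c - i) = ∑ i, y i * y (i + c) :=
      Fintype.sum_equiv (Equiv.neg _) _ _ (fun i => by simp [sub_eq_add_neg, add_comm])
    rw [this, h1 c]
    split_ifs <;> ring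
  have e2 : 2 * (U * W) = (a : Q m) * J := by
    refine ext_coeff fun c => ?_
    rw [show (2 : Q m) = ((2 : ℤ) : Q m) by norm_num, coeff_int_mul, coeff_int_mul, coeff_conv, hJ, mk_coeff]
    simp only [hU, hW, mk_coeff]
    rw [h2 c, mul_one]
  have hsum2 : 2 * X * Y = a * m := by
    refine int_mul_one_inj (m := m) ?_
    have := congrArg (· * J) e2
    simp only [mul_assoc, hWJ] at this
    push_cast
    linear_combination this - 2 * (Y : Q m) * hUJ + (a : Q m) * hJJ
  have hsum1 : X * X + Y * Y = N + a * m := by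
    refine int_mul_one_inj (m := m) ?_
    have := congrArg (· * J) e1
    simp only [add_mul, mul_assoc, hWJ, hUJ, hJJ] at this
    push_cast at this ⊢
    linear_combination this - (X : Q m) * hUJ - (Y : Q m) * hVJ
  have hN : (X - Y) ^ 2 = N := by linear_combination hsum1 - hsum2
  have hsq0 : ∀ f : ZMod m → ℤ, (∀ i, f i = 0 ∨ f i = 1) → ∑ i, f i * f i = ∑ i, f i := fun f hf =>
    Finset.sum_congr rfl fun i _ => by rcases hf i with h | h <;> rw [h] <;> ring
  have hu0 : ∀ c ∈ P, ∑ i, u i * u (c - i) = X := fun c hc => by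
    rw [hX, ← hsq0 u hu01]
    refine Finset.sum_congr rfl fun i _ => ?_
    rw [show c - i = -i + c by ring, hst _ c hc, husymm]
  have hA : X + Y = a + N := by
    have := h1 0
    rw [hu0 0 (zero_mem P)] at this
    simp only [add_zero, hsq0 y hy01, if_pos] at this
    linarith
  have hNY : N ≤ Y := by
    have := h1 t
    rw [hu0 t ht, if_neg ht0] at this
    have hnn : 0 ≤ ∑ i, y i * y (i + t) := Finset.sum_nonneg fun i _ => by
      rcases hy01 i with h | h <;> rcases hy01 (i + t) with h' | h' <;> simp [h, h']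
    linarith
  -- the idempotents
  set p : ℤ := (Nat.card P : ℤ) with hp
  set Z := sub P with hZ
  have hUZ : U * Z = (p : Q m) * U := by rw [hU, hZ, conv_subInd hst, hp]; push_cast; rfl
  have hZZ : Z * Z = (p : Q m) * Z := by
    rw [hZ]
    nth_rw 1 [sub]
    rw [conv_subInd (fun i s hs => by simp only [P.add_mem_cancel_right hs]), hp]
    push_cast
    rfl
  have hJZ : J * Z = (p : Q m) * J := by rw [hJ, hZ, conv_subInd (fun _ _ _ => rfl), hp]; push_cast; rfl
  have e3 : 2 * (U * (U * U)) + (a : Q m) * (Y : Q m) * J = 2 * (N : Q m) * U + 2 * (a : Q m) * (X : Q m) * J := by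
    linear_combination 2 * U * e1 - V * e2 + 2 * (a : Q m) * hUJ - (a : Q m) * hVJ
  have hsum2' := congrArg (fun k : ℤ => (k : Q m)) hsum2
  have hsum1' := congrArg (fun k : ℤ => (k : Q m)) hsum1
  push_cast at hsum2' hsum1'
  set E := ((m : ℤ) : Q m) * (U * U) - ((X * X : ℤ) : Q m) * J with hE
  set F := ((m : ℤ) : Q m) * Z - (p : Q m) * J with hF
  set G := (N : Q m) * F - (p : Q m) * E with hG
  have hscal : (2 : Q m) * (X : Q m) ^ 3 * J + (a : Q m) * (Y : Q m) * ((m : ℤ) : Q m) * J =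
      2 * (N : Q m) * (X : Q m) * J + 2 * (a : Q m) * (X : Q m) * ((m : ℤ) : Q m) * J := by
    push_cast
    linear_combination (2 * (X : Q m) * J) * hsum1' - (Y : Q m) * J * hsum2'
  have hEF : E * F = (p : Q m) * ((m : ℤ) : Q m) * E := by
    rw [hE, hF]
    push_cast at *
    linear_combination (m : Q m) * (m : Q m) * U * hUZ - (m : Q m) * (p : Q m) * U * hUJ
      - (m : Q m) * (p : Q m) * (X : Q m) * hUJ - (X : Q m) * (X : Q m) * (m : Q m) * hJZ
      + (X : Q m) * (X : Q m) * (p : Q m) * hJJ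
  have hFF : F * F = (p : Q m) * ((m : ℤ) : Q m) * F := by
    rw [hF]
    push_cast at *
    linear_combination (m : Q m) * (m : Q m) * hZZ - 2 * (m : Q m) * (p : Q m) * hJZ + (p : Q m) * (p : Q m) * hJJ
  have hEE : 2 * (E * E) = 2 * ((m : ℤ) : Q m) * (N : Q m) * E := by
    rw [hE]
    push_cast at *
    linear_combination (m : Q m) * (m : Q m) * U * e3
      - (m : Q m) * (m : Q m) * ((a : Q m) * (Y : Q m) - 2 * (a : Q m) * (X : Q m)) * hUJ
      - 4 * (m : Q m) * (X : Q m) * (X : Q m) * U * hUJ - 4 * (m : Q m) * (X : Q m) ^ 3 * hUJ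
      + 2 * (X : Q m) ^ 4 * hJJ - (m : Q m) * (X : Q m) * hscal
  have hGG : 2 * (G * G) = ((2 * (p * m * N) : ℤ) : Q m) * G := by
    rw [hG]
    push_cast at *
    linear_combination 2 * (N : Q m) * (N : Q m) * hFF - 4 * (N : Q m) * (p : Q m) * hEF
      + (p : Q m) * (p : Q m) * hEE
  have hGc : ∀ c, G.coeff c = N * (m * (sub P).coeff c - p) - p * (m * ∑ i, u i * u (c - i) - X * X) := by
    intro c
    rw [hG, AddMonoidAlgebra.coeff_sub, Finsupp.sub_apply, coeff_int_mul, coeff_int_mul, hF, hE,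
      AddMonoidAlgebra.coeff_sub, Finsupp.sub_apply, AddMonoidAlgebra.coeff_sub, Finsupp.sub_apply, coeff_int_mul,
      coeff_int_mul, coeff_int_mul, coeff_int_mul, coeff_conv, hJ, mk_coeff]
    simp only [hU, mk_coeff, hZ]
    ring
  have hGs : ∀ c, G.coeff (-c) = G.coeff c := fun c => by
    rw [hGc, hGc]
    have e : ∑ i, u i * u (-c - i) = ∑ i, u i * u (c - i) :=
      Fintype.sum_equiv (Equiv.neg _) _ _ (fun i => by
        simp only [Equiv.neg_apply, husymm]
        rw [show c - -i = -(-c - i) by ring, husymm])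
    rw [e]
    simp [sub, mk_coeff]
  have hG0 : 0 ≤ G.coeff 0 := by
    have h := congrArg (fun f : Q m => f.coeff 0) hGG
    rw [show (2 : Q m) = ((2 : ℤ) : Q m) by norm_num, coeff_int_mul, coeff_int_mul, coeff_conv] at h
    simp only [zero_sub, hGs] at h
    have hnn : 0 ≤ ∑ i, G.coeff i * G.coeff i := Finset.sum_nonneg fun i _ => mul_self_nonneg _
    by_contra hneg
    rw [not_le] at hneg
    have hpos : 0 < ∑ i, G.coeff i * G.coeff i :=
      lt_of_lt_of_le (mul_pos_of_neg_of_neg hneg hneg)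
        (Finset.single_le_sum (fun i _ => mul_self_nonneg (G.coeff i)) (Finset.mem_univ 0))
    have hN0 : 0 ≤ N := hN ▸ sq_nonneg _
    have hp0 : 0 ≤ p * m * N := by rw [hp]; positivity
    nlinarith
  have hineq : p * X * (m - X) ≤ N * (m - p) := by
    rw [hGc 0, hu0 0 (zero_mem P)] at hG0
    simp only [sub, mk_coeff, if_pos (zero_mem P)] at hG0
    nlinarith
  refine ⟨hN, hNY, hA, hsum2, hineq, fun K hK huK hXpos => ?_⟩
  -- support in a proper subgroup
  obtain ⟨c, hc⟩ : ∃ c, c ∉ K := by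
    by_contra hcon
    push Not at hcon
    exact hK ((AddSubgroup.eq_top_iff' K).mpr hcon)
  set S := sub K with hS
  set k : ℤ := (Nat.card K : ℤ) with hk
  have hUS : U * S = (X : Q m) * S := by
    refine ext_coeff fun c => ?_
    rw [coeff_int_mul, coeff_conv, hX, Finset.sum_mul]
    refine Finset.sum_congr rfl fun i _ => ?_
    simp only [hU, hS, sub, mk_coeff]
    rcases hu01 i with h | h
    · simp [h]
    · simp only [sub_eq_add_neg, K.add_mem_cancel_right (neg_mem (huK i h)), h]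
  have hJS : J * S = (k : Q m) * J := by rw [hJ, hS, conv_subInd (fun _ _ _ => rfl), hk]; push_cast; rfl
  have f1 : 2 * (X : Q m) * (S * W) = (a : Q m) * (k : Q m) * J := by
    linear_combination S * e2 - 2 * W * hUS + (a : Q m) * hJS
  have f2 : 2 * (X : Q m) * (((X * X : ℤ) : Q m) * S) + (a : Q m) * (k : Q m) * (Y : Q m) * J =
      2 * (X : Q m) * ((N : Q m) * S) + 2 * (X : Q m) * ((a : Q m) * (k : Q m) * J) := by
    push_cast
    linear_combination 2 * (X : Q m) * S * e1 - 2 * (X : Q m) * U * hUS - 2 * (X : Q m) * (X : Q m) * hUS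
      - V * f1 + 2 * (X : Q m) * (a : Q m) * hJS - (a : Q m) * (k : Q m) * hVJ
  have g0 := congrArg (fun f : Q m => f.coeff 0) f2
  have gc := congrArg (fun f : Q m => f.coeff c) f2
  simp only [AddMonoidAlgebra.coeff_add, Finsupp.add_apply, show (2 : Q m) = ((2 : ℤ) : Q m) by norm_num,
    ← Int.cast_mul, ← mul_assoc, coeff_int_mul, hS, hJ, sub, mk_coeff, if_pos (zero_mem K), if_neg hc] at g0 gc
  have : 2 * X * (X * X - N) = 0 := by linear_combination g0 - gc
  rcases mul_eq_zero.mp this with h | h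
  · linarith
  · linear_combination h

theorem eight_y : ∀ y : Fin 8 → Bool,
    ¬ ((∀ c ∈ [(1 : Fin 8), 2, 3], (Finset.univ.filter fun i => y i && y (i + c)).card = 2) ∧
      (Finset.univ.filter fun i => y i && y (i + 4)).card = 0) := by
  decide +kernel

theorem eight_u : ∀ u : Fin 8 → Bool,
    ((∀ i, u (-i) = u i) ∧ (∀ i, u (i + 4) = u i) ∧ u 1 = false ∧ u 3 = false ∧
      (Finset.univ.filter fun i => u i).card = 2) →
    (∀ c ∈ [(1 : Fin 8), 2, 3], (Finset.univ.filter fun i => u i && u (c - i)).card = 0) ∧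
      (Finset.univ.filter fun i => u i && u (4 - i)).card = 2 := by
  decide +kernel

/-- The case of eight. -/
theorem eight (u y : Fin 8 → ℤ) (hu01 : ∀ i, u i = 0 ∨ u i = 1) (hy01 : ∀ i, y i = 0 ∨ y i = 1)
    (hsym : ∀ i, u (-i) = u i) (h4 : ∀ i, u (i + 4) = u i) (h13 : u 1 = 0 ∧ u 3 = 0)
    (hX : ∑ i, u i = 2)
    (h1 : ∀ c, c ≠ 0 → (∑ i, u i * u (c - i)) + ∑ i, y i * y (i + c) = 2) : False := by
  set ub : Fin 8 → Bool := fun i => decide (u i = 1) with hub
  set yb : Fin 8 → Bool := fun i => decide (y i = 1) with hyb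
  have hprod : ∀ (f g : Fin 8 → ℤ) (σ : Fin 8 → Fin 8), (∀ i, f i = 0 ∨ f i = 1) → (∀ i, g i = 0 ∨ g i = 1) →
      ∑ i, f i * g (σ i) =
        ((Finset.univ.filter fun i => decide (f i = 1) && decide (g (σ i) = 1)).card : ℤ) := by
    intro f g σ hf hg
    rw [Finset.natCast_card_filter]
    refine Finset.sum_congr rfl fun i _ => ?_
    rcases hf i with h | h <;> rcases hg (σ i) with h' | h' <;> simp [h, h']
  have hcard : (Finset.univ.filter fun i => ub i).card = 2 := by
    have : ((Finset.univ.filter fun i => ub i).card : ℤ) = 2 := by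
      rw [← hX, Finset.natCast_card_filter]
      refine Finset.sum_congr rfl fun i _ => ?_
      rcases hu01 i with h | h <;> simp [hub, h]
    exact_mod_cast this
  obtain ⟨hu1, hu2⟩ := eight_u ub ⟨fun i => by simp [hub, hsym], fun i => by simp [hub, h4], by simp [hub, h13.1],
    by simp [hub, h13.2], hcard⟩
  refine eight_y yb ⟨fun c hc => ?_, ?_⟩
  · have hc0 : c ≠ 0 := by
      intro h; subst h
      exact absurd hc (by decide)
    have := h1 c hc0
    rw [hprod u u (fun i => c - i) hu01 hu01, hprod y y (fun i => i + c) hy01 hy01, hu1 c hc] at this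
    push_cast at this
    simp only [hyb]
    omega
  · have := h1 4 (by decide)
    rw [hprod u u (fun i => 4 - i) hu01 hu01, hprod y y (fun i => i + 4) hy01 hy01, hu2] at this
    push_cast at this
    simp only [hyb]
    omega

/-- The arithmetic: only an odd prime free configuration of square shape survives. -/
theorem arith {X Y a N R m : ℤ} {p : ℤ} (hp : 2 ≤ p) (hpX : p ≤ X) (hXm : 2 * X ≤ m) (hpm : p ≤ m)
    (hR : R = Y - X) (hN : R ^ 2 = N) (hNY : N ≤ Y) (hA : X + Y = a + N) (hT : 2 * X * Y = a * m)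
    (hI : p * X * (m - X) ≤ N * (m - p)) : p = 2 ∧ 2 ≤ R ∧ X = R ^ 2 - R ∧ Y = R ^ 2 ∧ m = 2 * R ^ 2 ∧ a = R ^ 2 - R := by
  have hN0 : 0 ≤ N := hN ▸ sq_nonneg R
  have h1 : p * X < 2 * N := by
    by_contra h
    rw [not_lt] at h
    nlinarith
  have hR0 : 0 < R := by
    by_contra h
    rw [not_lt] at h
    nlinarith
  have h2 : R ^ 2 ≤ X + R := by nlinarith
  have h3 : X < R ^ 2 := by nlinarith
  have hp2 : p = 2 := by
    by_contra h
    have h3' : 3 ≤ p := by omega
    have h4 : R < 3 := by nlinarith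
    interval_cases R <;> nlinarith
  set e := R ^ 2 - X with he
  have ha : a = R ^ 2 + R - 2 * e := by
    have : Y = X + R := by linarith
    rw [he]; linarith
  have ha0 : 0 < a := by
    by_contra h
    rw [not_lt] at h
    nlinarith
  have hq : a * (2 * X + 2 * e - m) = 2 * e * (R - e) := by
    have hYX : Y = X + R := by linarith
    have : a = 2 * X + R - R ^ 2 := by linarith
    subst hYX
    rw [he]
    linear_combination hT + (2 * R ^ 2) * this
  have heR : e = R := by
    by_contra h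
    have : e < R := by omega
    have hpos : 0 < 2 * e * (R - e) := by
      refine mul_pos (by omega) (by omega)
    have hge : a ≤ 2 * e * (R - e) := by
      rw [← hq]
      have : 0 < 2 * X + 2 * e - m := by
        by_contra hh
        rw [not_lt] at hh
        nlinarith
      nlinarith
    nlinarith [sq_nonneg (R - 2 * e), sq_nonneg (R - 2)]
  have hX : X = R ^ 2 - R := by omega
  refine ⟨hp2, ?_, hX, by linarith, ?_, by linarith⟩
  · by_contra h
    have : R = 1 := by omega
    subst this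
    omega
  · rw [heR] at hq
    have : 2 * X + 2 * R - m = 0 := by
      have h0 : a * (2 * X + 2 * R - m) = 0 := by rw [hq]; ring
      rcases mul_eq_zero.mp h0 with h | h
      · omega
      · exact h
    linarith

/-- No such difference set exists. -/
theorem no_difference_set (u y : ZMod m → ℤ) (a N : ℤ) (hu01 : ∀ i, u i = 0 ∨ u i = 1)
    (hy01 : ∀ i, y i = 0 ∨ y i = 1) (husymm : ∀ i, u (-i) = u i)
    (P : AddSubgroup (ZMod m)) (hP : (Nat.card P).Prime) (hst : ∀ i, ∀ t ∈ P, u (i + t) = u i)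
    (h1 : ∀ c, (∑ i, u i * u (c - i)) + ∑ i, y i * y (i + c) = a + if c = 0 then N else 0)
    (h2 : ∀ c, 2 * ∑ i, u i * y (c - i) = a)
    (hu0 : ∃ i, u i = 1) (hu1 : ∃ i, u i = 0)
    (hK : Nat.card P = 2 → ∃ K : AddSubgroup (ZMod m), K ≠ ⊤ ∧
      ((∀ i, u i = 1 → i ∈ K) ∨ ∀ i, u i = 0 → i ∈ K)) : False := by
  classical
  -- reduce to the smaller half
  wlog hhalf : 2 * (∑ i, u i) ≤ m generalizing u y a N
  · have hsum : ∀ f : ZMod m → ℤ, ∑ i, (1 - f i) = (m : ℤ) - ∑ i, f i := fun f => by simp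
    have hflip : ∀ (f g : ZMod m → ℤ) (σ : ZMod m ≃ ZMod m), ∑ i, (1 - f i) * (1 - g (σ i)) =
        (m : ℤ) - (∑ i, f i) - (∑ i, g i) + ∑ i, f i * g (σ i) := by
      intro f g σ
      have e : ∑ i, g (σ i) = ∑ i, g i := Equiv.sum_comp σ g
      simp only [sub_mul, mul_sub, one_mul, mul_one, Finset.sum_sub_distrib, e]
      simp
      ring
    refine this (fun i => 1 - u i) (fun i => 1 - y i) (2 * m - 2 * (∑ i, u i) - 2 * (∑ i, y i) + a) N
      (fun i => by rcases hu01 i with h | h <;> simp [h]) (fun i => by rcases hy01 i with h | h <;> simp [h])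
      (fun i => by simp [husymm]) (fun i t ht => by simp [hst i t ht]) (fun c => ?_) (fun c => ?_)
      (hu1.imp fun i h => by simp [h]) (hu0.imp fun i h => by simp [h]) ?_ ?_
    · have hf := hflip u u (Equiv.subLeft c)
      have hg := hflip y y (Equiv.addRight c)
      simp only [Equiv.subLeft_apply, Equiv.coe_addRight] at hf hg
      have := h1 c
      linarith
    · have hf := hflip u y (Equiv.subLeft c)
      simp only [Equiv.subLeft_apply] at hf
      have := h2 c
      linarith
    · intro h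
      obtain ⟨K, hK', h'⟩ := hK h
      exact ⟨K, hK', h'.symm.imp (fun f i hi => f i (by linarith)) (fun f i hi => f i (by linarith))⟩
    · rw [hsum]; linarith
  haveI := Fact.mk hP
  obtain ⟨t, ht, ht0⟩ : ∃ t ∈ P, t ≠ 0 := by
    haveI : Nontrivial P := Finite.one_lt_card_iff_nontrivial.mp hP.one_lt
    obtain ⟨⟨t, ht⟩, h⟩ := exists_ne (0 : P)
    exact ⟨t, ht, fun e => h (Subtype.ext e)⟩
  obtain ⟨hN, hNY, hA, hT, hI, hsub⟩ := relations u y a N hu01 hy01 husymm P ht ht0 hst h1 h2
  set X := ∑ i, u i with hX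
  obtain ⟨i₀, hi₀⟩ := hu0
  have hcoset : (Nat.card P : ℤ) ≤ X := by
    have : ∑ i ∈ Finset.univ.filter (fun i => i - i₀ ∈ P), u i = (Nat.card P : ℤ) := by
      have h : ∀ i ∈ Finset.univ.filter (fun i => i - i₀ ∈ P), u i = 1 := fun i hi => by
        have := hst i₀ (i - i₀) (Finset.mem_filter.mp hi).2
        rwa [add_sub_cancel, hi₀] at this
      rw [Finset.sum_congr rfl h, Finset.sum_const, nsmul_eq_mul, mul_one]
      congr 1
      rw [Nat.card_eq_fintype_card, ← Finset.card_univ]
      refine (Finset.card_bij (fun (t : P) _ => i₀ + (t : ZMod m)) (fun t _ => by simp)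
        (fun t _ s _ h => Subtype.ext (add_left_cancel h))
        (fun i hi => ⟨⟨i - i₀, (Finset.mem_filter.mp hi).2⟩, Finset.mem_univ _, by simp⟩)).symm
    rw [← this]
    exact Finset.sum_le_univ_sum_of_nonneg fun i => by rcases hu01 i with h | h <;> simp [h]
  have hpm : (Nat.card P : ℤ) ≤ m := by
    have := Nat.le_of_dvd (Nat.pos_of_ne_zero (NeZero.ne m)) ((Nat.card_zmod m) ▸ AddSubgroup.card_addSubgroup_dvd_card P)
    exact_mod_cast this
  obtain ⟨hp2, hR, hXv, hYv, hm, ha⟩ := arith (R := ∑ i, y i - X) (by exact_mod_cast hP.two_le) hcoset hhalf hpm rfl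
    (by rw [← hN]; ring) hNY hA hT hI
  set R := ∑ i, y i - X with hRdef
  obtain ⟨K, hKt, hK'⟩ := hK (by exact_mod_cast hp2)
  have hXpos : 0 < X := by
    have : 0 ≤ (Nat.card P : ℤ) := by positivity
    linarith
  have hKhalf : 2 * Nat.card K ≤ m := by
    have h := K.index_mul_card
    rw [Nat.card_zmod] at h
    have hi : 2 ≤ K.index := by
      have h0 : K.index ≠ 0 := fun e => NeZero.ne m (by simpa [e] using h.symm)
      have h1 : K.index ≠ 1 := fun e => hKt (AddSubgroup.index_eq_one.mp e)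
      omega
    calc 2 * Nat.card K ≤ K.index * Nat.card K := Nat.mul_le_mul_right _ hi
      _ = m := h
  rcases hK' with h | h
  swap
  · have hle : ∑ i, (1 - u i) ≤ (Nat.card K : ℤ) := by
      have : ∑ i, (1 - u i) ≤ ∑ i, (if i ∈ K then (1 : ℤ) else 0) := Finset.sum_le_sum fun i _ => by
        rcases hu01 i with e | e
        · simp [e, h i e]
        · split_ifs <;> simp [e]
      refine this.trans (le_of_eq ?_)
      rw [Finset.sum_boole, Nat.card_eq_fintype_card, Fintype.card_subtype]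
    simp only [Finset.sum_sub_distrib, Finset.sum_const, Finset.card_univ, ZMod.card, nsmul_eq_mul, mul_one] at hle
    have : 2 * (Nat.card K : ℤ) ≤ m := by exact_mod_cast hKhalf
    nlinarith
  have hsq := hsub K hKt h hXpos
  have hR2 : R = 2 := by
    have e : (R ^ 2 - R) ^ 2 = R ^ 2 := by rw [← hXv, hsq, ← hN]; ring
    by_contra hne
    have : 3 ≤ R := by omega
    nlinarith
  rw [hR2] at hXv hYv hm ha
  have hm8 : m = 8 := by exact_mod_cast hm
  subst hm8
  have hKev : (1 : ZMod 8) ∉ K ∧ (3 : ZMod 8) ∉ K := by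
    have hgen : ∀ g : ZMod 8, (∀ x : ZMod 8, ∃ k : Fin 8, x = k.val • g) → g ∉ K := fun g hg hgK =>
      hKt ((AddSubgroup.eq_top_iff' K).mpr fun x => by
        obtain ⟨k, hk⟩ := hg x
        exact hk ▸ nsmul_mem hgK _)
    exact ⟨hgen 1 (by decide), hgen 3 (by decide)⟩
  have h4 : (4 : ZMod 8) ∈ P := by
    have hone : ∀ s : ZMod 8, s ≠ 0 → (2 : ℕ) • s = 0 → s = 4 := by decide
    have hts : (2 : ℕ) • t = 0 := by
      have : Nat.card P = 2 := by exact_mod_cast hp2
      have h' := card_nsmul_eq_zero' (G := P) (x := ⟨t, ht⟩)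
      rw [this] at h'
      exact congrArg Subtype.val h'
    exact hone t ht0 hts ▸ ht
  have h13 : ∀ i : ZMod 8, i ∉ K → u i = 0 := fun i hi => (hu01 i).resolve_right fun e => hi (h i e)
  refine eight u y hu01 hy01 husymm (fun i => hst i 4 h4) ⟨h13 1 hKev.1, h13 3 hKev.2⟩ (hX.symm.trans (hXv.trans (by norm_num))) fun c hc => ?_
  have hh := h1 c
  split_ifs at hh with h0
  · exact absurd h0 hc
  · exact hh.trans (by rw [ha]; norm_num)

end CfsgLib.SchurDihedral
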