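import Cfsg.Agent.Lib.SchurDihedral.Trace

/-!
Schur rings on dihedral groups: basic consequences of primitivity.
-/

set_option autoImplicit false
set_option linter.unusedSectionVars false

namespace CfsgLib.SchurDihedral

open DihedralGroup Pointwise

variable {m : ℕ} [NeZero m]

/-- The rotation subgroup. -/
def rot : Subgroup (DihedralGroup m) where
  carrier := {c | ∃ i, c = r i}
  one_mem' := ⟨0, DihedralGroup.one_def⟩
  mul_mem' := by rintro _ _ ⟨i, rfl⟩ ⟨j, rfl⟩; exact ⟨i + j, r_mul_r i j⟩
  inv_mem' := by rintro _ ⟨i, rfl⟩; exact ⟨-i, inv_r i⟩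

theorem rot_ne_top : (rot : Subgroup (DihedralGroup m)) ≠ ⊤ := fun h => by
  obtain ⟨i, hi⟩ : (sr 0 : DihedralGroup m) ∈ rot := h ▸ Subgroup.mem_top _
  cases hi

/-- A primitive system closed under the operations of a Schur ring. -/
structure PreRing (I : Alg m → Prop) : Prop where
  two_le : 2 ≤ m
  one : I 1
  add : ∀ f g, I f → I g → I (f + g)
  mul : ∀ f g, I f → I g → I (f * g)
  post : ∀ (φ : ℤ → ℤ) f, I f → I (post φ f)
  prim : ∀ (K : Subgroup (DihedralGroup m)) (V : Finset (DihedralGroup m)),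
    (∀ c, c ∈ V ↔ c ∈ K) → I (indic V) → K = ⊥ ∨ K = ⊤

/-- The same with symmetry. -/
structure SymRing (I : Alg m → Prop) : Prop extends PreRing I where
  symm : ∀ f, I f → ∀ c, f.coeff c⁻¹ = f.coeff c

/-- A set of the ring. -/
def Inset (I : Alg m → Prop) (V : Finset (DihedralGroup m)) : Prop := I (indic V)

variable {I : Alg m → Prop}

namespace PreRing

variable (hI : PreRing I)
include hI

theorem of_coeff {f g : Alg m} (hf : I f) (h : ∀ c, g.coeff c = f.coeff c) : I g :=
  alg_ext h ▸ hf

theorem pow {f : Alg m} (hf : I f) : ∀ n : ℕ, I (f ^ n)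
  | 0 => by rw [pow_zero]; exact hI.one
  | n + 1 => by rw [pow_succ]; exact hI.mul _ _ (pow hf n) hf

theorem combine (φ : ℤ → ℤ) {f g : Alg m} (hf : I f) (hg : I g) :
    I (CfsgLib.SchurDihedral.post φ (f + g)) :=
  hI.post φ _ (hI.add _ _ hf hg)

open Classical in
theorem level {f : Alg m} (hf : I f) (Pn : ℤ → Prop) {V : Finset (DihedralGroup m)}
    (h : ∀ c, c ∈ V ↔ Pn (f.coeff c)) : Inset I V :=
  hI.of_coeff (hI.post (fun x => if Pn x then 1 else 0) f hf) fun c => by
    rw [indic_coeff, post_coeff]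
    exact if_congr (h c) rfl rfl

theorem singleton_one : Inset I {1} :=
  hI.of_coeff hI.one fun c => by rw [indic_coeff, one_coeff']; simp

theorem empty : Inset I ∅ :=
  hI.of_coeff (hI.post (fun _ => 0) _ hI.one) fun c => by rw [indic_coeff, post_coeff]; simp

theorem union {V W : Finset (DihedralGroup m)} (hV : Inset I V) (hW : Inset I W) : Inset I (V ∪ W) :=
  hI.of_coeff (hI.combine (fun x => if x = 0 then 0 else 1) hV hW) fun c => by
    rw [indic_coeff, post_coeff, MonoidAlgebra.coeff_add, Finsupp.add_apply, indic_coeff, indic_coeff]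
    by_cases h1 : c ∈ V <;> by_cases h2 : c ∈ W <;> simp [h1, h2]

theorem inter {V W : Finset (DihedralGroup m)} (hV : Inset I V) (hW : Inset I W) : Inset I (V ∩ W) :=
  hI.of_coeff (hI.combine (fun x => if x = 2 then 1 else 0) hV hW) fun c => by
    rw [indic_coeff, post_coeff, MonoidAlgebra.coeff_add, Finsupp.add_apply, indic_coeff, indic_coeff]
    by_cases h1 : c ∈ V <;> by_cases h2 : c ∈ W <;> simp [h1, h2]

theorem sdiff {V W : Finset (DihedralGroup m)} (hV : Inset I V) (hW : Inset I W) : Inset I (V \ W) :=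
  hI.of_coeff (hI.combine (fun x => if x = 1 then 1 else 0) hV (hI.post (fun x => -x) _ hW)) fun c => by
    rw [indic_coeff, post_coeff, MonoidAlgebra.coeff_add, Finsupp.add_apply, indic_coeff, post_coeff, indic_coeff]
    by_cases h1 : c ∈ V <;> by_cases h2 : c ∈ W <;> simp [h1, h2]

theorem erase {V : Finset (DihedralGroup m)} (hV : Inset I V) : Inset I (V.erase 1) := by
  rw [← Finset.sdiff_singleton_eq_erase]
  exact hI.sdiff hV hI.singleton_one

theorem univ : Inset I (Finset.univ : Finset (DihedralGroup m)) :=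
  hI.of_coeff (hI.post (fun _ => 1) _ hI.one) fun c => by rw [indic_coeff, post_coeff]; simp

theorem setMul {V W : Finset (DihedralGroup m)} (hV : Inset I V) (hW : Inset I W) : Inset I (V * W) := by
  classical
  exact hI.level (hI.mul _ _ hV hW) (fun x => x ≠ 0) (mem_mul_iff V W)

theorem biUnion {ι : Type*} [DecidableEq ι] (s : Finset ι) (F : ι → Finset (DihedralGroup m))
    (hF : ∀ i ∈ s, Inset I (F i)) : Inset I (s.biUnion F) := by
  induction s using Finset.induction_on with
  | empty => simpa using hI.empty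
  | insert a s ha ih =>
    rw [Finset.biUnion_insert]
    exact hI.union (hF a (Finset.mem_insert_self a s)) (ih fun i hi => hF i (Finset.mem_insert_of_mem hi))

/-- A set inside the rotations is trivial. -/
theorem eq_one_of_rot {V : Finset (DihedralGroup m)} (hV : Inset I V) (hVC : ∀ c ∈ V, c ∈ rot) :
    ∀ c ∈ V, c = 1 := by
  classical
  intro c hc
  set K := Subgroup.closure (V : Set (DihedralGroup m)) with hK
  set 𝒲 := (Finset.univ : Finset (Finset (DihedralGroup m))).filter
    (fun W => Inset I W ∧ 1 ∈ W ∧ ∀ x ∈ W, x ∈ K) with h𝒲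
  have hne : 𝒲.Nonempty :=
    ⟨{1}, Finset.mem_filter.mpr ⟨Finset.mem_univ _, hI.singleton_one, Finset.mem_singleton_self 1,
      fun x hx => by rw [Finset.mem_singleton.mp hx]; exact one_mem K⟩⟩
  obtain ⟨W, hW, hmax⟩ := Finset.exists_max_image 𝒲 Finset.card hne
  obtain ⟨hWI, hW1, hWK⟩ := (Finset.mem_filter.mp hW).2
  have hsub : W ∪ W * V = W := by
    refine (Finset.eq_of_subset_of_card_le Finset.subset_union_left (hmax _ ?_)).symm
    refine Finset.mem_filter.mpr ⟨Finset.mem_univ _, hI.union hWI (hI.setMul hWI hV),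
      Finset.mem_union_left _ hW1, fun x hx => ?_⟩
    rcases Finset.mem_union.mp hx with h | h
    · exact hWK x h
    · obtain ⟨w, hw, v, hv, rfl⟩ := Finset.mem_mul.mp h
      exact mul_mem (hWK w hw) (Subgroup.subset_closure hv)
  let M : Subgroup (DihedralGroup m) :=
    { carrier := {g | ∀ w ∈ W, w * g ∈ W}
      one_mem' := fun w hw => by rwa [mul_one]
      mul_mem' := fun {x y} hx hy w hw => by rw [← mul_assoc]; exact hy _ (hx w hw)
      inv_mem' := fun {x} hx w hw => by
        obtain ⟨v, hv, e⟩ := Finset.surj_on_of_inj_on_of_card_le (s := W) (t := W) (fun v _ => v * x)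
          (fun v hv => hx v hv) (fun v₁ v₂ _ _ e => mul_right_cancel e) le_rfl w hw
        rwa [e, mul_inv_cancel_right] }
  have hKM : K ≤ M := (Subgroup.closure_le M).mpr fun v hv w hw => by
    have : w * v ∈ W ∪ W * V := Finset.mem_union_right _ (Finset.mul_mem_mul hw hv)
    rwa [hsub] at this
  have hWeq : ∀ x, x ∈ W ↔ x ∈ K := fun x => ⟨hWK x, fun hx => by simpa using hKM hx 1 hW1⟩
  rcases hI.prim K W hWeq hWI with h | h
  · have : c ∈ K := Subgroup.subset_closure hc
    rwa [h, Subgroup.mem_bot] at this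
  · refine absurd (top_unique ?_) (rot_ne_top (m := m))
    rw [← h]
    exact (Subgroup.closure_le _).mpr hVC

/-- A set without rotations is empty. -/
theorem eq_empty_of_trace {V : Finset (DihedralGroup m)} (hV : Inset I V) (h : ∀ i, r i ∉ V) : V = ∅ := by
  classical
  by_contra hne
  obtain ⟨v, hv⟩ := Finset.nonempty_iff_ne_empty.mpr hne
  have hinv : ∀ x ∈ V, x⁻¹ = x := fun x hx => by
    cases x with
    | r i => exact absurd hx (h i)
    | sr i => exact inv_sr i
  have hVV : ∀ x ∈ V * V, x = 1 := hI.eq_one_of_rot (hI.setMul hV hV) fun x hx => by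
    obtain ⟨a, ha, b, hb, rfl⟩ := Finset.mem_mul.mp hx
    cases a with
    | r i => exact absurd ha (h i)
    | sr i => cases b with
      | r j => exact absurd hb (h j)
      | sr j => exact ⟨j - i, sr_mul_sr i j⟩
  have huniq : ∀ w ∈ V, w = v := fun w hw => by
    have e := hVV _ (Finset.mul_mem_mul hv hw)
    rw [← inv_eq_of_mul_eq_one_right e, hinv v hv]
  let K : Subgroup (DihedralGroup m) :=
    { carrier := {c | c = 1 ∨ c = v}
      one_mem' := Or.inl rfl
      mul_mem' := fun {x y} hx hy => by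
        rcases hx with rfl | rfl
        · rw [one_mul]; exact hy
        · rcases hy with rfl | rfl
          · exact Or.inr (mul_one _)
          · exact Or.inl (hVV _ (Finset.mul_mem_mul hv hv))
      inv_mem' := fun {x} hx => by
        rcases hx with rfl | rfl
        · exact Or.inl inv_one
        · exact Or.inr (hinv _ hv) }
  have hmem : ∀ c, c ∈ ({1} ∪ V : Finset (DihedralGroup m)) ↔ c ∈ K := fun c => by
    rw [Finset.mem_union, Finset.mem_singleton]
    exact or_congr_right ⟨huniq c, fun e => e ▸ hv⟩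
  rcases hI.prim K _ hmem (hI.union hI.singleton_one hV) with hK | hK
  · have : v ∈ K := Or.inr rfl
    rw [hK, Subgroup.mem_bot] at this
    exact h 0 (by rw [DihedralGroup.r_zero, ← this]; exact hv)
  · have hall : (Finset.univ : Finset (DihedralGroup m)) ⊆ {1, v} := fun c _ => by
      have : c ∈ K := hK ▸ Subgroup.mem_top c
      rcases this with rfl | rfl <;> simp
    have h1 := Finset.card_le_card hall
    have h2 := Finset.card_insert_le (1 : DihedralGroup m) {v}
    rw [Finset.card_univ, DihedralGroup.card] at h1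
    rw [Finset.card_singleton] at h2
    have := hI.two_le
    omega

/-- A set is determined by its rotations. -/
theorem eq_of_trace {V W : Finset (DihedralGroup m)} (hV : Inset I V) (hW : Inset I W)
    (h : ∀ i, r i ∈ V ↔ r i ∈ W) : V = W := by
  have h1 := hI.eq_empty_of_trace (hI.sdiff hV hW) fun i hi =>
    (Finset.mem_sdiff.mp hi).2 ((h i).mp (Finset.mem_sdiff.mp hi).1)
  have h2 := hI.eq_empty_of_trace (hI.sdiff hW hV) fun i hi =>
    (Finset.mem_sdiff.mp hi).2 ((h i).mpr (Finset.mem_sdiff.mp hi).1)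
  exact Finset.Subset.antisymm (Finset.sdiff_eq_empty_iff_subset.mp h1) (Finset.sdiff_eq_empty_iff_subset.mp h2)

theorem nonempty_trace {V : Finset (DihedralGroup m)} (hV : Inset I V) (hne : V.Nonempty) : ∃ i, r i ∈ V := by
  by_contra hcon
  push Not at hcon
  exact hne.ne_empty (hI.eq_empty_of_trace hV hcon)

open Classical in
/-- A property of values holds everywhere as soon as it holds on rotations. -/
theorem forall_of_trace {f : Alg m} (hf : I f) (Pn : ℤ → Prop) (h : ∀ i, Pn (f.coeff (r i))) :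
    ∀ c, Pn (f.coeff c) := by
  intro c
  by_contra hc
  have := hI.eq_empty_of_trace (V := Finset.univ.filter fun c => ¬ Pn (f.coeff c))
    (hI.level hf (fun x => ¬ Pn x) fun c => by simp) (fun i hi => (Finset.mem_filter.mp hi).2 (h i))
  exact Finset.notMem_empty c (this ▸ Finset.mem_filter.mpr ⟨Finset.mem_univ _, hc⟩)

theorem red_eq_of_trace {p : ℕ} {f g : Alg m} (hf : I f) (hg : I g)
    (h : ∀ i, ((f.coeff (r i) : ℤ) : ZMod p) = ((g.coeff (r i) : ℤ) : ZMod p)) : red p f = red p g := by
  refine alg_ext fun c => ?_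
  rw [red_coeff, red_coeff, ← sub_eq_zero, ← Int.cast_sub]
  have := hI.forall_of_trace (hI.add _ _ hf (hI.post (fun x => -x) _ hg)) (fun x => ((x : ℤ) : ZMod p) = 0)
    (fun i => by simp [post_coeff, h i]) c
  simpa [post_coeff, sub_eq_add_neg] using this

end PreRing

namespace SymRing

variable (hI : SymRing I)
include hI

theorem mul_comm' {f g : Alg m} (hf : I f) (hg : I g) : f * g = g * f := by
  refine alg_ext fun c => ?_
  rw [← hI.symm _ (hI.mul _ _ hf hg) c, coeff_prod, coeff_prod]
  refine Fintype.sum_equiv ((Equiv.mulLeft c).trans (Equiv.refl _)) _ _ fun y => ?_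
  simp only [Equiv.trans_apply, Equiv.coe_mulLeft, Equiv.refl_apply]
  rw [← hI.symm g hg (y⁻¹ * c⁻¹), show (c * y)⁻¹ * c = y⁻¹ by group, hI.symm f hf y,
    show (y⁻¹ * c⁻¹)⁻¹ = c * y by group, mul_comm]

theorem mem_inv {V : Finset (DihedralGroup m)} (hV : Inset I V) {c : DihedralGroup m} (hc : c ∈ V) : c⁻¹ ∈ V := by
  have := hI.symm _ hV c
  simp only [indic_coeff, hc, if_true] at this
  by_contra hn
  simp [hn] at this

theorem symm_r {f : Alg m} (hf : I f) (i : ZMod m) : f.coeff (r (-i)) = f.coeff (r i) := by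
  rw [← inv_r, hI.symm f hf]

/-- Invariance of the rotation part under the units. -/
def Rat (f : Alg m) : Prop := ∀ (k : (ZMod m)ˣ) (i : ZMod m), f.coeff (r ((k : ZMod m) * i)) = f.coeff (r i)

/-- Prime numbers in the class of a unit. -/
theorem exists_prime (k : (ZMod m)ˣ) (n : ℕ) :
    ∃ p : ℕ, n < p ∧ 2 * m < p ∧ p.Prime ∧ Odd p ∧ (p : ZMod m) = k := by
  obtain ⟨p, hp, hpp, he⟩ := Nat.forall_exists_prime_gt_and_eq_mod (q := m) k.isUnit (n + 2 * m)
  exact ⟨p, by omega, by omega, hpp, hpp.odd_of_ne_two (by have := hI.two_le; omega), he⟩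

theorem pow_prime_unit {p : ℕ} [Fact p.Prime] (hodd : Odd p) {k : (ZMod m)ˣ} (hk : (p : ZMod m) = k)
    {f : Alg m} (hf : I f) (i : ZMod m) :
    (((f ^ p).coeff (r ((k : ZMod m) * i)) : ℤ) : ZMod p) = ((f.coeff (r i) : ℤ) : ZMod p) := by
  classical
  rw [pow_prime_r hodd (hI.symm_r hf), hk]
  simp only [Units.mul_right_inj, Finset.filter_eq', Finset.mem_univ, if_true, Finset.sum_singleton]

/-- The image of a set under a unit. -/
theorem scale {V : Finset (DihedralGroup m)} (hV : Inset I V) (k : (ZMod m)ˣ) :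
    ∃ V', Inset I V' ∧ V'.card = V.card ∧ ∀ i, r ((k : ZMod m) * i) ∈ V' ↔ r i ∈ V := by
  classical
  obtain ⟨p, -, hp2, hpp, hodd, hk⟩ := hI.exists_prime k 0
  haveI := Fact.mk hpp
  set f := indic V with hf
  have hg : I (f ^ p) := hI.pow hV p
  set W := Finset.univ.filter (fun c => (((f ^ p).coeff c : ℤ) : ZMod p) = 1) with hW
  have hWI : Inset I W := hI.level hg (fun x => ((x : ℤ) : ZMod p) = 1) fun c => by simp [hW]
  have htr : ∀ i, (((f ^ p).coeff (r i) : ℤ) : ZMod p) = 0 ∨ (((f ^ p).coeff (r i) : ℤ) : ZMod p) = 1 := fun i => by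
    obtain ⟨j, rfl⟩ : ∃ j, i = (k : ZMod m) * j := ⟨((k⁻¹ : (ZMod m)ˣ) : ZMod m) * i, by simp⟩
    rw [hI.pow_prime_unit hodd hk hV, indic_coeff]
    split_ifs <;> simp
  have hall := hI.forall_of_trace hg (fun x => ((x : ℤ) : ZMod p) = 0 ∨ ((x : ℤ) : ZMod p) = 1) htr
  refine ⟨W, hWI, ?_, fun i => ?_⟩
  · have hred : red p (f ^ p) = red p (indic W) := alg_ext fun c => by
      rw [red_coeff, red_coeff, indic_coeff]
      by_cases hc : c ∈ W
      · rw [if_pos hc, (Finset.mem_filter.mp hc).2, Int.cast_one]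
      · rw [if_neg hc, Int.cast_zero]
        exact (hall c).resolve_right fun e => hc (Finset.mem_filter.mpr ⟨Finset.mem_univ _, e⟩)
    let aug : MonoidAlgebra (ZMod p) (DihedralGroup m) →+* ZMod p :=
      (MonoidAlgebra.lift (ZMod p) (ZMod p) (DihedralGroup m) 1).toRingHom
    have haug : ∀ U : Finset (DihedralGroup m), aug (red p (indic U)) = (U.card : ZMod p) := fun U => by
      simp only [aug, AlgHom.toRingHom_eq_coe, RingHom.coe_coe, MonoidAlgebra.lift_apply]
      rw [Finsupp.sum_fintype _ _ (fun _ => by simp)]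
      simp [red_coeff, indic_coeff]
    have h := congrArg aug hred
    rw [map_pow, map_pow, hf, haug, haug, ZMod.pow_card] at h
    have hle : ∀ U : Finset (DihedralGroup m), U.card < p := fun U => by
      have := Finset.card_le_univ U
      rw [DihedralGroup.card] at this
      omega
    exact ((ZMod.natCast_eq_natCast_iff' _ _ p).mp h.symm).trans (Nat.mod_eq_of_lt (hle V)) |>.symm.trans
      (Nat.mod_eq_of_lt (hle W)) |>.symm
  · rw [hW, Finset.mem_filter, hI.pow_prime_unit hodd hk hV, indic_coeff]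
    by_cases h : r i ∈ V <;> simp [h]

theorem rat_mul {f g : Alg m} (hf : I f) (hg : I g) (rf : Rat f) (rg : Rat g) : Rat (f * g) := by
  intro k i
  obtain ⟨p, hpn, -, hpp, hodd, hk⟩ :=
    hI.exists_prime k ((f * g).coeff (r ((k : ZMod m) * i)) - (f * g).coeff (r i)).natAbs
  haveI := Fact.mk hpp
  have hfix : ∀ {e : Alg m}, I e → Rat e → red p (e ^ p) = red p e := fun {e} he re => by
    refine hI.red_eq_of_trace (hI.pow he p) he fun j => ?_
    obtain ⟨j', rfl⟩ : ∃ j', j = (k : ZMod m) * j' := ⟨((k⁻¹ : (ZMod m)ˣ) : ZMod m) * j, by simp⟩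
    rw [hI.pow_prime_unit hodd hk he, re k j']
  have h1 : red p ((f * g) ^ p) = red p (f * g) := by
    have hc : Commute f g := hI.mul_comm' hf hg
    rw [hc.mul_pow, map_mul, hfix hf rf, hfix hg rg, map_mul]
  have h2 := congrArg (fun F => F.coeff (r ((k : ZMod m) * i))) h1
  simp only [red_coeff] at h2
  rw [hI.pow_prime_unit hodd hk (hI.mul _ _ hf hg), ← sub_eq_zero, ← Int.cast_sub,
    ZMod.intCast_zmod_eq_zero_iff_dvd] at h2
  have := Int.eq_zero_of_dvd_of_natAbs_lt_natAbs h2 (by
    rw [Int.natAbs_natCast]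
    calc _ = ((f * g).coeff (r ((k : ZMod m) * i)) - (f * g).coeff (r i)).natAbs := by rw [← Int.natAbs_neg, neg_sub]
      _ < p := hpn)
  linarith

/-- The rational part of the ring. -/
theorem ratPart : SymRing (fun f => I f ∧ Rat f) where
  two_le := hI.two_le
  one := ⟨hI.one, fun k i => by
    simp only [one_coeff', DihedralGroup.one_def, r.injEq, Units.mul_right_eq_zero]⟩
  add f g hf hg := ⟨hI.add _ _ hf.1 hg.1, fun k i => by
    simp only [MonoidAlgebra.coeff_add, Finsupp.add_apply, hf.2 k i, hg.2 k i]⟩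
  mul f g hf hg := ⟨hI.mul _ _ hf.1 hg.1, hI.rat_mul hf.1 hg.1 hf.2 hg.2⟩
  post φ f hf := ⟨hI.post φ f hf.1, fun k i => by simp only [post_coeff, hf.2 k i]⟩
  prim K V hKV hV := hI.prim K V hKV hV.1
  symm f hf := hI.symm f hf.1

/-- The stabilizer of a proper set is trivial. -/
theorem stab_trivial {U : Finset (DihedralGroup m)} (hU : Inset I U) (hne : U.Nonempty) (hU1 : U ≠ Finset.univ)
    {g : DihedralGroup m} (hg : ∀ y ∈ U, y * g ∈ U) : g = 1 := by
  classical
  let M : Subgroup (DihedralGroup m) :=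
    { carrier := {g | ∀ w ∈ U, w * g ∈ U}
      one_mem' := fun w hw => by rwa [mul_one]
      mul_mem' := fun {x y} hx hy w hw => by rw [← mul_assoc]; exact hy _ (hx w hw)
      inv_mem' := fun {x} hx w hw => by
        obtain ⟨v, hv, e⟩ := Finset.surj_on_of_inj_on_of_card_le (s := U) (t := U) (fun v _ => v * x)
          (fun v hv => hx v hv) (fun v₁ v₂ _ _ e => mul_right_cancel e) le_rfl w hw
        rwa [e, mul_inv_cancel_right] }
  have key : ∀ c, (indic U * indic U).coeff c = (U.card : ℤ) ↔ c ∈ M := fun c => by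
    rw [coeff_indic_mul, Nat.cast_inj, Finset.card_filter_eq_iff]
    exact ⟨fun h y hy => by simpa using h _ (hI.mem_inv hU hy), fun h y hy => h _ (hI.mem_inv hU hy)⟩
  have hM := hI.prim M (Finset.univ.filter fun c => (indic U * indic U).coeff c = (U.card : ℤ))
    (fun c => by rw [Finset.mem_filter, key]; simp) (hI.level (hI.mul _ _ hU hU) (fun x => x = (U.card : ℤ)) fun c => by simp)
  rcases hM with h | h
  · have : g ∈ M := hg
    rwa [h, Subgroup.mem_bot] at this
  · refine absurd (Finset.eq_univ_iff_forall.mpr fun c => ?_) hU1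
    obtain ⟨u, hu⟩ := hne
    have hm : u⁻¹ * c ∈ M := h ▸ Subgroup.mem_top _
    simpa using hm u hu

end SymRing

end CfsgLib.SchurDihedral
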