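import Mathlib

/-!
Closed systems of functions on a dihedral group (Schur rings), and congruences for the rotation part.
-/

set_option autoImplicit false
set_option linter.unusedSectionVars false

namespace CfsgLib.SchurDihedral

open DihedralGroup Pointwise

variable {m : ℕ} [NeZero m]

abbrev Alg (m : ℕ) := MonoidAlgebra ℤ (DihedralGroup m)

noncomputable def fn {R : Type*} [CommSemiring R] (φ : DihedralGroup m → R) : MonoidAlgebra R (DihedralGroup m) :=
  MonoidAlgebra.ofCoeff (Finsupp.equivFunOnFinite.symm φ)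

theorem fn_coeff {R : Type*} [CommSemiring R] (φ : DihedralGroup m → R) (c : DihedralGroup m) :
    (fn φ).coeff c = φ c := by simp [fn]

theorem alg_ext {R : Type*} [CommSemiring R] {F F' : MonoidAlgebra R (DihedralGroup m)}
    (h : ∀ c, F.coeff c = F'.coeff c) : F = F' :=
  MonoidAlgebra.ext (Finsupp.ext h)

noncomputable def post (φ : ℤ → ℤ) (f : Alg m) : Alg m := fn fun c => φ (f.coeff c)

theorem post_coeff (φ : ℤ → ℤ) (f : Alg m) (c : DihedralGroup m) : (post φ f).coeff c = φ (f.coeff c) :=
  fn_coeff _ c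

noncomputable def indic (V : Finset (DihedralGroup m)) : Alg m := fn fun c => if c ∈ V then 1 else 0

theorem indic_coeff (V : Finset (DihedralGroup m)) (c : DihedralGroup m) :
    (indic V).coeff c = if c ∈ V then 1 else 0 :=
  fn_coeff _ c

theorem coeff_prod {R : Type*} [CommSemiring R] (F H : MonoidAlgebra R (DihedralGroup m)) (z : DihedralGroup m) :
    (F * H).coeff z = ∑ y, F.coeff y * H.coeff (y⁻¹ * z) := by
  classical
  rw [MonoidAlgebra.coeff_mul, Finsupp.sum_fintype _ _ (fun _ => by simp)]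
  refine Finset.sum_congr rfl fun y _ => ?_
  rw [Finsupp.sum_fintype _ _ (fun _ => by simp)]
  simp only [show ∀ w : DihedralGroup m, (y * w = z) ↔ (w = y⁻¹ * z) from fun w => eq_inv_mul_iff_mul_eq.symm]
  rw [Finset.sum_ite_eq' Finset.univ, if_pos (Finset.mem_univ _)]

theorem one_coeff' {R : Type*} [CommSemiring R] (c : DihedralGroup m) :
    (1 : MonoidAlgebra R (DihedralGroup m)).coeff c = if c = 1 then 1 else 0 := by
  classical
  rw [MonoidAlgebra.one_def, MonoidAlgebra.coeff_single, Finsupp.single_apply]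
  simp [eq_comm]

theorem sum_dihedral {R : Type*} [AddCommMonoid R] (φ : DihedralGroup m → R) :
    ∑ y, φ y = ∑ i : ZMod m, φ (r i) + ∑ i : ZMod m, φ (sr i) := by
  let e : ZMod m ⊕ ZMod m ≃ DihedralGroup m :=
    { toFun := Sum.elim r sr
      invFun := fun c => match c with
        | r i => Sum.inl i
        | sr i => Sum.inr i
      left_inv := fun x => by cases x <;> rfl
      right_inv := fun x => by cases x <;> rfl }
  rw [← e.sum_comp φ, Fintype.sum_sum_type]
  rfl

theorem prod_r {R : Type*} [CommSemiring R] (F H : MonoidAlgebra R (DihedralGroup m)) (c : ZMod m) :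
    (F * H).coeff (r c) =
      ∑ i, F.coeff (r i) * H.coeff (r (c - i)) + ∑ i, F.coeff (sr i) * H.coeff (sr (i + c)) := by
  rw [coeff_prod, sum_dihedral]
  congr 1 <;> refine Finset.sum_congr rfl fun i _ => ?_ <;> simp [sub_eq_add_neg, add_comm]

theorem prod_sr {R : Type*} [CommSemiring R] (F H : MonoidAlgebra R (DihedralGroup m)) (c : ZMod m) :
    (F * H).coeff (sr c) =
      ∑ i, F.coeff (r i) * H.coeff (sr (i + c)) + ∑ i, F.coeff (sr i) * H.coeff (r (c - i)) := by
  rw [coeff_prod, sum_dihedral]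
  congr 1 <;> refine Finset.sum_congr rfl fun i _ => ?_ <;> simp [sub_eq_add_neg, add_comm]

theorem coeff_indic_mul (V W : Finset (DihedralGroup m)) (z : DihedralGroup m) :
    (indic V * indic W).coeff z = ((V.filter fun y => y⁻¹ * z ∈ W).card : ℤ) := by
  rw [coeff_prod, Finset.natCast_card_filter]
  simp only [indic_coeff, ite_mul, one_mul, zero_mul]
  rw [Finset.sum_ite_mem, Finset.univ_inter]

theorem mem_mul_iff (V W : Finset (DihedralGroup m)) (z : DihedralGroup m) :
    z ∈ V * W ↔ (indic V * indic W).coeff z ≠ 0 := by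
  rw [coeff_indic_mul, Nat.cast_ne_zero, Finset.card_ne_zero, Finset.mem_mul]
  constructor
  · rintro ⟨y, hy, w, hw, rfl⟩
    exact ⟨y, Finset.mem_filter.mpr ⟨hy, by rwa [inv_mul_cancel_left]⟩⟩
  · rintro ⟨y, hy⟩
    rw [Finset.mem_filter] at hy
    exact ⟨y, hy.1, y⁻¹ * z, hy.2, mul_inv_cancel_left y z⟩

/-- Reduction modulo `p`. -/
noncomputable def red (p : ℕ) : Alg m →+* MonoidAlgebra (ZMod p) (DihedralGroup m) :=
  MonoidAlgebra.mapRingHom (DihedralGroup m) (Int.castRingHom (ZMod p))

theorem red_coeff (p : ℕ) (f : Alg m) (c : DihedralGroup m) :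
    (red p f).coeff c = ((f.coeff c : ℤ) : ZMod p) := by
  simp [red, MonoidAlgebra.coe_mapRingHom, MonoidAlgebra.coeff_map]

/-- The `p`-th power on the rotation part. -/
theorem pow_prime_r {p : ℕ} [hp : Fact p.Prime] (hodd : Odd p) {f : Alg m}
    (hsym : ∀ i, f.coeff (r (-i)) = f.coeff (r i)) (j : ZMod m) :
    (((f ^ p).coeff (r j) : ℤ) : ZMod p) =
      ∑ i ∈ Finset.univ.filter (fun i : ZMod m => (p : ZMod m) * i = j), ((f.coeff (r i) : ℤ) : ZMod p) := by
  classical
  haveI : CharP (MonoidAlgebra (ZMod p) (DihedralGroup m)) p :=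
    charP_of_injective_ringHom (f := MonoidAlgebra.singleOneRingHom) MonoidAlgebra.single_right_injective p
  set F := red p f with hF
  set X : MonoidAlgebra (ZMod p) (DihedralGroup m) :=
    ∑ i : ZMod m, MonoidAlgebra.single (r i) (F.coeff (r i)) with hX
  set Y : MonoidAlgebra (ZMod p) (DihedralGroup m) :=
    ∑ i : ZMod m, MonoidAlgebra.single (sr i) (F.coeff (sr i)) with hY
  have hXr : ∀ i, X.coeff (r i) = F.coeff (r i) := fun i => by
    simp [hX, MonoidAlgebra.coeff_sum, Finsupp.single_apply]
  have hXs : ∀ i, X.coeff (sr i) = 0 := fun i => by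
    simp [hX, MonoidAlgebra.coeff_sum, Finsupp.single_apply]
  have hYr : ∀ i, Y.coeff (r i) = 0 := fun i => by
    simp [hY, MonoidAlgebra.coeff_sum, Finsupp.single_apply]
  have hYs : ∀ i, Y.coeff (sr i) = F.coeff (sr i) := fun i => by
    simp [hY, MonoidAlgebra.coeff_sum, Finsupp.single_apply]
  have hFXY : F = X + Y := alg_ext fun c => by
    rw [MonoidAlgebra.coeff_add, Finsupp.add_apply]
    cases c with
    | r i => rw [hXr, hYr, add_zero]
    | sr i => rw [hXs, hYs, zero_add]
  have hFs : ∀ i, F.coeff (r (-i)) = F.coeff (r i) := fun i => by rw [hF, red_coeff, red_coeff, hsym]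
  have hcomm : Commute X Y := alg_ext fun c => by
    cases c with
    | r i => simp [prod_r, hXr, hXs, hYr, hYs]
    | sr i =>
      rw [prod_sr, prod_sr]
      simp only [hXr, hXs, hYr, hYs, zero_mul, Finset.sum_const_zero, add_zero, zero_add]
      refine Fintype.sum_equiv (Equiv.addRight i) _ _ fun k => ?_
      rw [Equiv.coe_addRight, show i - (k + i) = -k by ring, hFs]
      ring
  have hXp : X ^ p = ∑ i : ZMod m, MonoidAlgebra.single (r ((p : ZMod m) * i)) (F.coeff (r i)) := by
    rw [hX]
    suffices h : ∀ s : Finset (ZMod m), (∑ i ∈ s, MonoidAlgebra.single (r i) (F.coeff (r i))) ^ p =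
        ∑ i ∈ s, MonoidAlgebra.single (r ((p : ZMod m) * i)) (F.coeff (r i)) from h Finset.univ
    intro s
    induction s using Finset.induction_on with
    | empty => simp [zero_pow hp.out.ne_zero]
    | insert a s ha ih =>
      rw [Finset.sum_insert ha, Finset.sum_insert ha, add_pow_char_of_commute, ih, MonoidAlgebra.single_pow, r_pow,
        ZMod.pow_card, mul_comm a]
      refine Commute.sum_right _ _ _ fun i _ => ?_
      unfold Commute SemiconjBy
      rw [MonoidAlgebra.single_mul_single, MonoidAlgebra.single_mul_single, r_mul_r, r_mul_r, add_comm i a,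
        mul_comm (F.coeff (r i))]
  have hYpow : ∀ k : ℕ, (∀ i, (Y ^ (2 * k + 1)).coeff (r i) = 0) ∧ ∀ i, (Y ^ (2 * k)).coeff (sr i) = 0 := by
    intro k
    induction k with
    | zero => exact ⟨fun i => by simpa using hYr i, fun i => by
      rw [mul_zero, pow_zero, one_coeff', if_neg]
      intro h
      rw [DihedralGroup.one_def] at h
      cases h⟩
    | succ k ih =>
      have h2 : ∀ i, (Y ^ (2 * (k + 1))).coeff (sr i) = 0 := fun i => by
        rw [show 2 * (k + 1) = 2 * k + 1 + 1 by ring, pow_succ, prod_sr]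
        simp [ih.1, hYr]
      refine ⟨fun i => ?_, h2⟩
      rw [pow_succ, prod_r]
      simp [h2, hYr]
  obtain ⟨k, hk⟩ := hodd
  have hYp : (Y ^ p).coeff (r j) = 0 := by
    have := (hYpow k).1 j
    rwa [← hk] at this
  rw [← red_coeff, map_pow, ← hF, hFXY, add_pow_char_of_commute _ hcomm, MonoidAlgebra.coeff_add, Finsupp.add_apply,
    hYp, add_zero, hXp, MonoidAlgebra.coeff_sum, Finsupp.finsetSum_apply, Finset.sum_filter]
  simp [Finsupp.single_apply, hF, red_coeff]

end CfsgLib.SchurDihedral
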