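import Cfsg.Agent.Lib.SchurDihedral.Ring
import Cfsg.Agent.Lib.SchurDihedral.Core

/-!
A primitive symmetric Schur ring on a dihedral group is trivial.
-/

set_option autoImplicit false
set_option linter.unusedSectionVars false

namespace CfsgLib.SchurDihedral

open DihedralGroup

variable {m : ℕ} [NeZero m]

theorem exists_unit_mul {i j : ZMod m} (h : addOrderOf i = addOrderOf j) :
    ∃ k : (ZMod m)ˣ, j = (k : ZMod m) * i := by
  classical
  set o := addOrderOf i with ho
  have hopos : 0 < o := addOrderOf_pos i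
  set T := Finset.univ.filter (fun x : ZMod m => o • x = 0) with hT
  have hTc : T.card ≤ o := IsAddCyclic.card_nsmul_eq_zero_le hopos
  have hinj : Set.InjOn (fun l : ℕ => l • i) (Finset.range o : Set ℕ) := by
    intro a ha b hb e
    simp only [Finset.coe_range, Set.mem_Iio] at ha hb
    exact nsmul_injOn_Iio_addOrderOf ha hb e
  have hsub : (Finset.range o).image (fun l : ℕ => l • i) ⊆ T := fun x hx => by
    obtain ⟨l, -, rfl⟩ := Finset.mem_image.mp hx
    simp only [hT, Finset.mem_filter, Finset.mem_univ, true_and]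
    rw [← mul_nsmul, mul_comm, mul_nsmul, addOrderOf_nsmul_eq_zero, nsmul_zero]
  have heq := Finset.eq_of_subset_of_card_le hsub (by rw [Finset.card_image_of_injOn hinj, Finset.card_range]; exact hTc)
  have hj : j ∈ T := by
    simp only [hT, Finset.mem_filter, Finset.mem_univ, true_and]
    rw [h]
    exact addOrderOf_nsmul_eq_zero j
  rw [← heq] at hj
  obtain ⟨l, hl, rfl⟩ := Finset.mem_image.mp hj
  have hcop : Nat.Coprime l o := by
    have h2 : o = o / o.gcd l := by
      conv_lhs => rw [h]
      exact addOrderOf_nsmul i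
    have h3 : o.gcd l = 1 := by
      have hg : 0 < o.gcd l := Nat.gcd_pos_of_pos_left _ hopos
      have := Nat.div_mul_cancel (Nat.gcd_dvd_left o l)
      rw [← h2] at this
      exact (Nat.mul_eq_left hopos.ne').mp this
    rw [Nat.coprime_comm]
    exact h3
  have hdvd : o ∣ m := by
    have := addOrderOf_dvd_natCard i
    rwa [Nat.card_zmod] at this
  obtain ⟨k, hk⟩ := ZMod.unitsMap_surjective hdvd (ZMod.unitOfCoprime l hcop)
  refine ⟨k, ?_⟩
  have hk' : ((((k : ZMod m).val : ℕ) : ZMod o)) = ((l : ℕ) : ZMod o) := by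
    have := congrArg (fun u : (ZMod o)ˣ => (u : ZMod o)) hk
    simpa [ZMod.unitsMap_val, ZMod.natCast_val] using this
  have hmod : (k : ZMod m).val ≡ l [MOD addOrderOf i] := (ZMod.natCast_eq_natCast_iff _ _ _).mp hk'
  have := nsmul_eq_nsmul_iff_modEq.mpr hmod
  rw [← this, nsmul_eq_mul, ZMod.natCast_zmod_val]

/-- The rotations of a set. -/
def traceSet (V : Finset (DihedralGroup m)) : Finset (ZMod m) := Finset.univ.filter fun i => r i ∈ V

theorem mem_traceSet {V : Finset (DihedralGroup m)} {i : ZMod m} : i ∈ traceSet V ↔ r i ∈ V := by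
  simp [traceSet]

/-- The order of the subgroup generated by the rotations of a set. -/
noncomputable def spanOrder (V : Finset (DihedralGroup m)) : ℕ :=
  Nat.card (AddSubgroup.closure (traceSet V : Set (ZMod m)))

open Classical in
/-- The number of sets of a ring. -/
noncomputable def numSets (I : Alg m → Prop) : ℕ :=
  ((Finset.univ : Finset (Finset (DihedralGroup m))).filter (Inset I)).card

/-- Stability of the reflection part under a subgroup. -/
def BStable (P : AddSubgroup (ZMod m)) (f : Alg m) : Prop :=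
  ∀ t ∈ P, ∀ c, f.coeff (sr (c + t)) = f.coeff (sr c)

theorem SymRing.bPart {I : Alg m → Prop} (hI : SymRing I) (P : AddSubgroup (ZMod m)) :
    SymRing (fun f => I f ∧ BStable P f) where
  two_le := hI.two_le
  one := ⟨hI.one, fun t _ c => by simp [one_coeff', DihedralGroup.one_def, -DihedralGroup.r_zero]⟩
  add f g hf hg := ⟨hI.add _ _ hf.1 hg.1, fun t ht c => by
    simp only [MonoidAlgebra.coeff_add, Finsupp.add_apply, hf.2 t ht c, hg.2 t ht c]⟩
  mul f g hf hg := ⟨hI.mul _ _ hf.1 hg.1, fun t ht c => by
    rw [prod_sr, prod_sr]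
    congr 1
    · refine Finset.sum_congr rfl fun i _ => ?_
      rw [← add_assoc, hg.2 t ht]
    · refine (Fintype.sum_equiv (Equiv.addRight t) _ _ fun i => ?_).symm
      rw [Equiv.coe_addRight, hf.2 t ht, add_sub_add_right_eq_sub]⟩
  post φ f hf := ⟨hI.post φ f hf.1, fun t ht c => by simp only [post_coeff, hf.2 t ht c]⟩
  prim K V hKV hV := hI.prim K V hKV hV.1
  symm f hf := hI.symm f hf.1

set_option maxHeartbeats 1600000 in
/-- The rational case. -/
theorem rational_trivial (I : Alg m → Prop) (hI : SymRing I) (hrat : ∀ f, I f → SymRing.Rat f)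
    (V : Finset (DihedralGroup m)) (hV : Inset I V) (hV1 : 1 ∉ V) (hVne : V.Nonempty) :
    V = Finset.univ.erase 1 := by
  classical
  induction hn : numSets I using Nat.strong_induction_on generalizing I V with
  | _ n IH =>
    by_contra hbad
    obtain ⟨V, hVm, hmin⟩ := Finset.exists_min_image
      (Finset.univ.filter fun W => Inset I W ∧ 1 ∉ W ∧ W.Nonempty ∧ W ≠ Finset.univ.erase 1) spanOrder
      ⟨V, Finset.mem_filter.mpr ⟨Finset.mem_univ _, hV, hV1, hVne, hbad⟩⟩
    obtain ⟨hV, hV1, hVne, hbad⟩ := (Finset.mem_filter.mp hVm).2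
    set S := traceSet V with hS
    set H := AddSubgroup.closure (S : Set (ZMod m)) with hH
    set h := Nat.card H with hh
    have hSsub : ∀ i ∈ S, i ∈ H := fun i hi => AddSubgroup.subset_closure hi
    have hratS : ∀ (k : (ZMod m)ˣ) (i : ZMod m), i ∈ S → (k : ZMod m) * i ∈ S := fun k i hi => by
      have := hrat _ hV k i
      rw [indic_coeff, indic_coeff, if_pos (mem_traceSet.mp hi)] at this
      refine mem_traceSet.mpr ?_
      by_contra hne
      rw [if_neg hne] at this
      exact zero_ne_one this
    have h0S : (0 : ZMod m) ∉ S := fun h0 => hV1 (by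
      have := mem_traceSet.mp h0
      rwa [DihedralGroup.r_zero] at this)
    obtain ⟨i₀, hi₀⟩ := hI.nonempty_trace hV hVne
    rw [← mem_traceSet, ← hS] at hi₀
    have hh1 : h ≠ 1 := fun e => by
      have hb := AddSubgroup.card_eq_one.mp e
      have := hSsub i₀ hi₀
      rw [hb, AddSubgroup.mem_bot] at this
      exact h0S (this ▸ hi₀)
    -- choose the prime
    obtain ⟨p, hp, hph, hp2⟩ : ∃ p, p.Prime ∧ p ∣ h ∧ (p = 2 → ∃ e, h = 2 ^ e) := by
      by_cases hodd : ∃ p, p.Prime ∧ p ∣ h ∧ p ≠ 2
      · obtain ⟨p, hp, hph, hne⟩ := hodd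
        exact ⟨p, hp, hph, fun e => absurd e hne⟩
      · push Not at hodd
        obtain ⟨p, hp, hph⟩ := Nat.exists_prime_and_dvd hh1
        exact ⟨p, hp, hph, fun _ => ⟨h.primeFactorsList.length,
          Nat.eq_prime_pow_of_unique_prime_dvd (hh ▸ Nat.card_pos.ne') fun hq hqd => hodd _ hq hqd⟩⟩
    haveI := Fact.mk hp
    obtain ⟨t', ht'⟩ := exists_prime_addOrderOf_dvd_card' (G := H) p hph
    set t : ZMod m := (t' : ZMod m) with htdef
    have ht : addOrderOf t = p := by rw [htdef, AddSubgroup.addOrderOf_coe, ht']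
    have htH : t ∈ H := t'.2
    have ht0 : t ≠ 0 := fun e => hp.ne_one (by rw [← ht, e, addOrderOf_zero])
    set P := AddSubgroup.zmultiples t with hP
    have hPcard : Nat.card P = p := by rw [hP, Nat.card_zmultiples, ht]
    have hPH : P ≤ H := AddSubgroup.zmultiples_le.mpr htH
    have hPord : ∀ i, (p : ZMod m) * i = 0 → i ≠ 0 → addOrderOf i = p := fun i hi hi0 =>
      addOrderOf_eq_prime (by rw [nsmul_eq_mul]; exact hi) hi0
    have hPmem : ∀ i, i ∈ P ↔ (p : ZMod m) * i = 0 := by
      intro i
      constructor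
      · intro hi
        obtain ⟨z, rfl⟩ := AddSubgroup.mem_zmultiples_iff.mp hi
        rw [mul_smul_comm, ← nsmul_eq_mul, ← ht, addOrderOf_nsmul_eq_zero, smul_zero]
      · intro hi
        by_cases hi0 : i = 0
        · rw [hi0]; exact zero_mem P
        · obtain ⟨k, rfl⟩ := exists_unit_mul (ht.trans (hPord i hi hi0).symm)
          rw [← ZMod.natCast_zmod_val (k : ZMod m), ← nsmul_eq_mul]
          exact nsmul_mem (AddSubgroup.mem_zmultiples t) _
    -- stability away from `P`
    have hstar : ∀ i ∈ S, i ∉ P → ∀ s ∈ P, i + s ∈ S := by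
      intro i hiS hiP s hs
      have hpi : (p : ZMod m) * i ≠ 0 := fun e => hiP ((hPmem i).mpr e)
      by_cases hpodd : p = 2
      · obtain ⟨e, he⟩ := hp2 hpodd
        have key : ∀ x ∈ H, (p : ZMod m) * x = (p : ZMod m) * i → addOrderOf x = 2 * addOrderOf (2 • i) := by
          intro x hx hxi
          have hdvd : addOrderOf x ∣ 2 ^ e := he ▸ AddSubgroup.addOrderOf_dvd_natCard H hx
          obtain ⟨b, -, hb⟩ := (Nat.dvd_prime_pow Nat.prime_two).mp hdvd
          have h2x : 2 • x = 2 • i := by
            rw [nsmul_eq_mul, nsmul_eq_mul]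
            subst hpodd
            exact hxi
          rcases b with _ | b
          · rw [pow_zero, AddMonoid.addOrderOf_eq_one_iff] at hb
            subst hb
            exact absurd hxi.symm (by rwa [mul_zero])
          · rw [← h2x, addOrderOf_nsmul (n := 2) x, hb,
              Nat.gcd_eq_right (dvd_pow_self 2 (Nat.succ_ne_zero b)), pow_succ,
              Nat.mul_div_cancel _ two_pos, mul_comm]
        have h1 := key i (hSsub i hiS) rfl
        have h2 := key (i + s) (add_mem (hSsub i hiS) (hPH hs)) (by rw [mul_add, (hPmem s).mp hs, add_zero])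
        obtain ⟨k, hk⟩ := exists_unit_mul (h1.trans h2.symm)
        rw [hk]
        exact hratS k i hiS
      · have hodd : Odd p := hp.odd_of_ne_two hpodd
        set g := indic V ^ p with hg
        have hgI : I g := hI.pow hV p
        set W := (Finset.univ.filter fun c => ((g.coeff c : ℤ) : ZMod p) ≠ 0).erase 1 with hW
        have hWI : Inset I W := hI.erase (hI.level hgI (fun x => ((x : ℤ) : ZMod p) ≠ 0) fun c => by simp)
        have hgr : ∀ j, ((g.coeff (r j) : ℤ) : ZMod p) =
            (((Finset.univ.filter fun i : ZMod m => (p : ZMod m) * i = j ∧ i ∈ S).card : ℕ) : ZMod p) := fun j => by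
          rw [hg, pow_prime_r hodd (hI.symm_r hV), Finset.natCast_card_filter, Finset.sum_filter]
          refine Finset.sum_congr rfl fun l _ => ?_
          simp only [indic_coeff, hS, mem_traceSet]
          by_cases h1 : (p : ZMod m) * l = j <;> by_cases h2 : r l ∈ V <;> simp [h1, h2]
        set pH := H.map (nsmulAddMonoidHom p) with hpH
        have hWtr : (traceSet W : Set (ZMod m)) ⊆ pH := fun j hj => by
          have hj' := mem_traceSet.mp (Finset.mem_coe.mp hj)
          rw [hW, Finset.mem_erase, Finset.mem_filter, hgr] at hj'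
          have hne := hj'.2.2
          obtain ⟨l, hl⟩ := Finset.card_ne_zero.mp (fun e => hne (by rw [e, Nat.cast_zero]))
          rw [Finset.mem_filter] at hl
          exact AddSubgroup.mem_map.mpr ⟨l, hSsub l hl.2.2, by rw [← hl.2.1, nsmulAddMonoidHom_apply, nsmul_eq_mul]⟩
        have hpHle : pH ≤ H := fun x hx => by
          obtain ⟨l, hl, rfl⟩ := AddSubgroup.mem_map.mp hx
          exact nsmul_mem hl p
        have hpHlt : Nat.card pH < h := by
          have hsurj : Function.Surjective (fun x : H => (⟨p • (x : ZMod m), AddSubgroup.mem_map.mpr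
              ⟨x, x.2, rfl⟩⟩ : pH)) := fun ⟨y, hy⟩ => by
            obtain ⟨l, hl, rfl⟩ := AddSubgroup.mem_map.mp hy
            exact ⟨⟨l, hl⟩, rfl⟩
          refine lt_of_le_of_ne (Nat.card_le_card_of_surjective _ hsurj) fun e => ?_
          have hinj := ((Nat.bijective_iff_surjective_and_card _).mpr ⟨hsurj, e.symm⟩).1
          have := @hinj ⟨t, htH⟩ 0 (Subtype.ext (by
            simp only [ZeroMemClass.coe_zero, smul_zero]
            rw [← ht]
            exact addOrderOf_nsmul_eq_zero t))
          exact ht0 (congrArg Subtype.val this)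
        have hWempty : W = ∅ := by
          by_contra hWne
          have hle : spanOrder W ≤ Nat.card pH :=
            AddSubgroup.card_le_of_le ((AddSubgroup.closure_le pH).mpr hWtr)
          by_cases hWfull : W = Finset.univ.erase 1
          · obtain ⟨c, hcH, hc⟩ := SetLike.exists_of_lt
              (lt_of_le_of_ne hpHle fun e => hpHlt.ne (by rw [e]))
            refine hc (hWtr ?_)
            rw [Finset.mem_coe, mem_traceSet, hWfull, Finset.mem_erase]
            refine ⟨fun e => hc ?_, Finset.mem_univ _⟩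
            rw [DihedralGroup.one_def, r.injEq] at e
            rw [e]
            exact zero_mem pH
          · have := hmin W (Finset.mem_filter.mpr ⟨Finset.mem_univ _, hWI, Finset.notMem_erase _ _,
              Finset.nonempty_iff_ne_empty.mpr hWne, hWfull⟩)
            exact absurd (this.trans hle) (not_le.mpr hpHlt)
        have hzero : ((g.coeff (r ((p : ZMod m) * i)) : ℤ) : ZMod p) = 0 := by
          by_contra hne
          have : r ((p : ZMod m) * i) ∈ W := by
            rw [hW, Finset.mem_erase, Finset.mem_filter]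
            exact ⟨fun e => hpi (by rwa [DihedralGroup.one_def, r.injEq] at e), Finset.mem_univ _, hne⟩
          rw [hWempty] at this
          exact Finset.notMem_empty _ this
        rw [hgr, ZMod.natCast_eq_zero_iff] at hzero
        set A := Finset.univ.filter fun l : ZMod m => (p : ZMod m) * l = (p : ZMod m) * i ∧ l ∈ S with hA
        set B := Finset.univ.filter fun l : ZMod m => (p : ZMod m) * l = (p : ZMod m) * i with hB
        have hBc : B.card ≤ p := by
          rw [← hPcard, Nat.card_eq_fintype_card, ← Finset.card_univ]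
          refine Finset.card_le_card_of_surjOn (fun x : P => i + (x : ZMod m)) fun l hl => ?_
          have hl' : (p : ZMod m) * (l - i) = 0 := by
            rw [mul_sub, (Finset.mem_filter.mp hl).2, sub_self]
          exact ⟨⟨l - i, (hPmem _).mpr hl'⟩, Finset.mem_univ _, by simp⟩
        have hAB : A ⊆ B := fun l hl =>
          Finset.mem_filter.mpr ⟨Finset.mem_univ _, (Finset.mem_filter.mp hl).2.1⟩
        have hApos : 0 < A.card := Finset.card_pos.mpr ⟨i, Finset.mem_filter.mpr ⟨Finset.mem_univ _, rfl, hiS⟩⟩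
        have heq := Finset.eq_of_subset_of_card_le hAB (hBc.trans (Nat.le_of_dvd hApos hzero))
        have : i + s ∈ A := by
          rw [heq, hB, Finset.mem_filter]
          exact ⟨Finset.mem_univ _, by rw [mul_add, (hPmem s).mp hs, add_zero]⟩
        exact (Finset.mem_filter.mp this).2.2
    -- the completed set
    set full := ∃ s ∈ P, s ∈ S with hfull
    set U := if full then insert 1 V else V with hU
    have hUI : Inset I U := by
      rw [hU]
      split_ifs
      · rw [Finset.insert_eq]; exact hI.union hI.singleton_one hV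
      · exact hV
    have hVU : V ⊆ U := by
      rw [hU]
      split_ifs
      · exact Finset.subset_insert _ _
      · exact subset_rfl
    have hUtr : ∀ i, r i ∈ U ↔ i ∈ S ∨ (full ∧ i = 0) := fun i => by
      rw [hU]
      split_ifs with hf
      · rw [Finset.mem_insert, DihedralGroup.one_def, r.injEq, ← mem_traceSet, ← hS]
        exact ⟨fun h => h.elim (fun e => Or.inr ⟨hf, e⟩) Or.inl, fun h => h.elim Or.inr fun e => Or.inl e.2⟩
      · rw [← mem_traceSet, ← hS]
        exact ⟨Or.inl, fun h => h.elim (fun e => e) fun e => absurd e.1 hf⟩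
    have hPfull : full → ∀ s ∈ P, s ≠ 0 → s ∈ S := by
      rintro ⟨s₀, hs₀, hs₀S⟩ s hs hs0
      have hs₀0 : s₀ ≠ 0 := fun e => h0S (e ▸ hs₀S)
      obtain ⟨k, hk⟩ := exists_unit_mul
        ((hPord s₀ ((hPmem _).mp hs₀) hs₀0).trans (hPord s ((hPmem _).mp hs) hs0).symm)
      rw [hk]
      exact hratS k s₀ hs₀S
    have hust : ∀ s ∈ P, ∀ i, r i ∈ U → r (i + s) ∈ U := by
      intro s hs i hi
      by_cases hiP : i ∈ P
      · have hf : full := by
          rcases (hUtr i).mp hi with hiS | ⟨hf, -⟩
          · exact ⟨i, hiP, hiS⟩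
          · exact hf
        by_cases h0 : i + s = 0
        · exact (hUtr _).mpr (Or.inr ⟨hf, h0⟩)
        · exact (hUtr _).mpr (Or.inl (hPfull hf _ (add_mem hiP hs) h0))
      · have hiS : i ∈ S := by
          rcases (hUtr i).mp hi with hiS | ⟨-, rfl⟩
          · exact hiS
          · exact absurd (zero_mem P) hiP
        exact (hUtr _).mpr (Or.inl (hstar i hiS hiP s hs))
    set u : ZMod m → ℤ := fun i => (indic U).coeff (r i) with hu
    set y : ZMod m → ℤ := fun i => (indic U).coeff (sr i) with hy
    have hu01 : ∀ i, u i = 0 ∨ u i = 1 := fun i => by simp only [hu, indic_coeff]; split_ifs <;> simp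
    have hy01 : ∀ i, y i = 0 ∨ y i = 1 := fun i => by simp only [hy, indic_coeff]; split_ifs <;> simp
    have hu1iff : ∀ i, u i = 1 ↔ r i ∈ U := fun i => by simp [hu, indic_coeff]
    have husymm : ∀ i, u (-i) = u i := fun i => hI.symm_r hUI i
    have hst : ∀ i, ∀ s ∈ P, u (i + s) = u i := fun i s hs => by
      simp only [hu, indic_coeff]
      refine if_congr ⟨fun h' => ?_, hust s hs i⟩ rfl rfl
      simpa using hust (-s) (neg_mem hs) _ h'
    have hnot : ∃ i, r i ∉ U := by
      by_contra hcon
      push Not at hcon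
      refine hbad (hI.eq_of_trace hV (hI.erase hI.univ) fun i => ?_)
      rw [Finset.mem_erase, DihedralGroup.one_def, Ne, r.injEq]
      constructor
      · exact fun hi => ⟨fun e => h0S (e ▸ mem_traceSet.mpr hi), Finset.mem_univ _⟩
      · rintro ⟨hi, -⟩
        rcases (hUtr i).mp (hcon i) with hiS | ⟨-, h'⟩
        · exact mem_traceSet.mp hiS
        · exact absurd h' hi
    have hUne : U.Nonempty := hVne.mono hVU
    have hUuniv : U ≠ Finset.univ := fun e => by
      obtain ⟨i, hi⟩ := hnot
      exact hi (e ▸ Finset.mem_univ _)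
    -- the smaller ring
    have hI' := hI.bPart P
    have hlt : numSets (fun f => I f ∧ BStable P f) < n := by
      rw [← hn]
      refine Finset.card_lt_card ((Finset.ssubset_iff_of_subset fun W hW => ?_).mpr ?_)
      · exact Finset.mem_filter.mpr ⟨Finset.mem_univ _, (Finset.mem_filter.mp hW).2.1⟩
      · refine ⟨U, Finset.mem_filter.mpr ⟨Finset.mem_univ _, hUI⟩, fun hW => ?_⟩
        have hB := (Finset.mem_filter.mp hW).2.2
        have h1 : ∀ c ∈ U, c * r t ∈ U := by
          intro c hc
          cases c with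
          | r i => rw [r_mul_r]; exact hust t (AddSubgroup.mem_zmultiples t) i hc
          | sr i =>
            rw [sr_mul_r]
            have := hB t (AddSubgroup.mem_zmultiples t) i
            rw [indic_coeff, indic_coeff, if_pos hc] at this
            by_contra hne
            rw [if_neg hne] at this
            exact zero_ne_one this
        have := hI.stab_trivial hUI hUne hUuniv h1
        rw [DihedralGroup.one_def, r.injEq] at this
        exact ht0 this
    set f := indic U * indic U with hf
    have hfr : ∀ c, f.coeff (r c) = (∑ i, u i * u (c - i)) + ∑ i, y i * y (i + c) := fun c => prod_r _ _ c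
    have hfs : ∀ c, f.coeff (sr c) = 2 * ∑ i, u i * y (c - i) := fun c => by
      rw [hf, prod_sr, two_mul]
      congr 1
      · refine Fintype.sum_equiv (Equiv.neg _) _ _ fun i => ?_
        simp only [Equiv.neg_apply, husymm]
        rw [show c - -i = i + c by ring]
      · refine Fintype.sum_equiv (Equiv.subLeft c) _ _ fun i => ?_
        simp only [Equiv.subLeft_apply, sub_sub_cancel, hu, hy]
        ring
    have hfI : I f ∧ BStable P f := ⟨hI.mul _ _ hUI hUI, fun s hs c => by
      rw [hfs, hfs]
      congr 1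
      refine (Fintype.sum_equiv (Equiv.addRight s) _ _ fun i => ?_).symm
      rw [Equiv.coe_addRight, hst i s hs, add_sub_add_right_eq_sub]⟩
    set a := f.coeff (sr 0) with ha
    have hsr : (sr 0 : DihedralGroup m) ≠ 1 := by
      rw [DihedralGroup.one_def]
      intro e
      cases e
    have hconst : ∀ c, c ≠ 1 → f.coeff c = a := by
      intro c hc
      have hLI : Inset (fun f => I f ∧ BStable P f) ((Finset.univ.filter fun c => f.coeff c = a).erase 1) :=
        hI'.erase (hI'.level hfI (fun x => x = a) fun c => by simp)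
      have hL := IH _ hlt (fun f => I f ∧ BStable P f) hI' (fun f hf => hrat f hf.1) _ hLI
        (Finset.notMem_erase _ _) ⟨sr 0, by simp [hsr, ha]⟩ rfl
      have : c ∈ (Finset.univ.erase 1 : Finset (DihedralGroup m)) :=
        Finset.mem_erase.mpr ⟨hc, Finset.mem_univ _⟩
      rw [← hL] at this
      exact (Finset.mem_filter.mp (Finset.mem_of_mem_erase this)).2
    refine no_difference_set u y a (f.coeff 1 - a) hu01 hy01 husymm P (hPcard.symm ▸ hp) hst (fun c => ?_)
      (fun c => ?_) ⟨i₀, (hu1iff _).mpr ((hUtr _).mpr (Or.inl hi₀))⟩ ?_ ?_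
    · rw [← hfr]
      split_ifs with hc
      · rw [hc, DihedralGroup.r_zero]; ring
      · rw [add_zero, hconst _ (by rwa [DihedralGroup.one_def, Ne, r.injEq])]
    · rw [← hfs]
      refine hconst _ ?_
      rw [DihedralGroup.one_def]
      intro e
      cases e
    · obtain ⟨i, hi⟩ := hnot
      exact ⟨i, (hu01 i).resolve_right fun e => hi ((hu1iff i).mp e)⟩
    · intro hP2
      rw [hPcard] at hP2
      obtain ⟨e, he⟩ := hp2 hP2
      by_cases hHtop : H = ⊤
      · have hm : m = 2 ^ e := by rw [← he, hh, hHtop, AddSubgroup.card_top, Nat.card_zmod]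
        have he0 : e ≠ 0 := fun e0 => hh1 (by rw [he, e0, pow_zero])
        have h2m : 2 ∣ m := hm ▸ dvd_pow_self 2 he0
        set K := (ZMod.castHom h2m (ZMod 2)).toAddMonoidHom.ker with hK
        have hKne : K ≠ ⊤ := fun hk => by
          have h1 : (1 : ZMod m) ∈ K := hk ▸ AddSubgroup.mem_top _
          rw [hK, AddMonoidHom.mem_ker] at h1
          rw [RingHom.toAddMonoidHom_eq_coe, AddMonoidHom.coe_coe, map_one] at h1
          exact one_ne_zero h1
        have hunit : ∀ i, i ∉ K → u i = u 1 := fun i hi => by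
          have hi' : ((i.val : ℕ) : ZMod 2) ≠ 0 := fun h2 => hi (by
            rw [hK, AddMonoidHom.mem_ker]
            simpa [ZMod.natCast_val] using h2)
          have hcop : Nat.Coprime i.val m := by
            suffices h' : Nat.Coprime i.val (2 ^ e) from hm ▸ h'
            rw [Nat.coprime_pow_right_iff (Nat.pos_of_ne_zero he0), Nat.coprime_comm,
              Nat.prime_two.coprime_iff_not_dvd]
            exact fun h2 => hi' ((ZMod.natCast_eq_zero_iff _ _).mpr h2)
          have := hrat _ hUI (ZMod.unitOfCoprime _ hcop) 1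
          rw [mul_one, ZMod.coe_unitOfCoprime, ZMod.natCast_zmod_val] at this
          exact this
        rcases hu01 1 with h1 | h1
        · refine ⟨K, hKne, Or.inl fun i hi => by_contra fun hiK => ?_⟩
          rw [hunit i hiK, h1] at hi
          exact zero_ne_one hi
        · refine ⟨K, hKne, Or.inr fun i hi => by_contra fun hiK => ?_⟩
          rw [hunit i hiK, h1] at hi
          exact one_ne_zero hi
      · refine ⟨H, hHtop, Or.inl fun i hi => ?_⟩
        rcases (hUtr i).mp ((hu1iff i).mp hi) with h' | ⟨-, rfl⟩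
        · exact hSsub i h'
        · exact zero_mem H

/-- A primitive symmetric ring on a dihedral group has no nontrivial set. -/
theorem SymRing.trivial {I : Alg m → Prop} (hI : SymRing I) {V : Finset (DihedralGroup m)}
    (hV : Inset I V) (hV1 : 1 ∉ V) (hVne : V.Nonempty) : V = Finset.univ.erase 1 := by
  classical
  obtain ⟨T, hTm, hmin⟩ := Finset.exists_min_image
    (Finset.univ.filter fun W => Inset I W ∧ 1 ∉ W ∧ W.Nonempty) Finset.card
    ⟨V, Finset.mem_filter.mpr ⟨Finset.mem_univ _, hV, hV1, hVne⟩⟩
  obtain ⟨hT, hT1, hTne⟩ := (Finset.mem_filter.mp hTm).2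
  have hTmin : ∀ W, Inset I W → 1 ∉ W → W.Nonempty → T.card ≤ W.card := fun W h1 h2 h3 =>
    hmin W (Finset.mem_filter.mpr ⟨Finset.mem_univ _, h1, h2, h3⟩)
  choose F hF hFc hFt using fun k => hI.scale hT k
  have hF1 : ∀ k, (1 : DihedralGroup m) ∉ F k := fun k h1 => by
    rw [DihedralGroup.one_def, ← mul_zero (k : ZMod m), hFt k 0, DihedralGroup.r_zero] at h1
    exact hT1 h1
  set 𝒯 := (Finset.univ : Finset (ZMod m)ˣ).image F with h𝒯
  have hdisj : ∀ A ∈ 𝒯, ∀ B ∈ 𝒯, A ≠ B → Disjoint A B := by
    intro A hA B hB hne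
    obtain ⟨k, -, rfl⟩ := Finset.mem_image.mp hA
    obtain ⟨l, -, rfl⟩ := Finset.mem_image.mp hB
    rw [Finset.disjoint_iff_inter_eq_empty]
    by_contra hint
    have h1 : (1 : DihedralGroup m) ∉ F k ∩ F l := fun h => hF1 k (Finset.mem_inter.mp h).1
    have h2 := hTmin _ (hI.inter (hF k) (hF l)) h1 (Finset.nonempty_iff_ne_empty.mpr hint)
    have e1 := Finset.eq_of_subset_of_card_le (Finset.inter_subset_left (s₁ := F k) (s₂ := F l)) ((hFc k).symm ▸ h2)
    have e2 := Finset.eq_of_subset_of_card_le (Finset.inter_subset_right (s₁ := F k) (s₂ := F l)) ((hFc l).symm ▸ h2)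
    exact hne (e1.symm.trans e2)
  set W := 𝒯.biUnion (fun A => A) with hW
  have hWI : Inset I W := hI.biUnion _ _ fun A hA => by
    obtain ⟨k, -, rfl⟩ := Finset.mem_image.mp hA
    exact hF k
  have hWmem : ∀ c, c ∈ W ↔ ∃ k, c ∈ F k := fun c => by simp [hW, h𝒯]
  have hWrat : SymRing.Rat (indic W) := fun l i => by
    simp only [indic_coeff]
    refine if_congr ?_ rfl rfl
    rw [hWmem, hWmem]
    constructor
    · rintro ⟨k, hk⟩
      refine ⟨l⁻¹ * k, ?_⟩
      obtain ⟨j, hj⟩ : ∃ j, (l : ZMod m) * i = (k : ZMod m) * j :=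
        ⟨((k⁻¹ * l : (ZMod m)ˣ) : ZMod m) * i, by rw [← mul_assoc, ← Units.val_mul, mul_inv_cancel_left]⟩
      rw [hj, hFt k] at hk
      have hij : i = ((l⁻¹ * k : (ZMod m)ˣ) : ZMod m) * j := by
        rw [Units.val_mul, mul_assoc, ← hj, Units.inv_mul_cancel_left]
      rwa [hij, hFt (l⁻¹ * k)]
    · rintro ⟨k, hk⟩
      refine ⟨l * k, ?_⟩
      obtain ⟨j, rfl⟩ : ∃ j, i = (k : ZMod m) * j := ⟨((k⁻¹ : (ZMod m)ˣ) : ZMod m) * i, by simp⟩
      rw [hFt k] at hk
      rwa [← mul_assoc, ← Units.val_mul, hFt (l * k)]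
  have hW1 : (1 : DihedralGroup m) ∉ W := fun h => by
    obtain ⟨k, hk⟩ := (hWmem 1).mp h
    exact hF1 k hk
  have hWne : W.Nonempty := by
    obtain ⟨i, hi⟩ := hI.nonempty_trace hT hTne
    exact ⟨r (((1 : (ZMod m)ˣ) : ZMod m) * i), (hWmem _).mpr ⟨1, (hFt 1 i).mpr hi⟩⟩
  have hfullW := rational_trivial _ hI.ratPart (fun f hf => hf.2) W ⟨hWI, hWrat⟩ hW1 hWne
  have hcard : 𝒯.card * T.card = 2 * m - 1 := by
    have h1 : W.card = 𝒯.card * T.card := by
      rw [hW, Finset.card_biUnion fun A hA B hB h => hdisj A hA B hB h, Finset.sum_const_nat]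
      intro A hA
      obtain ⟨k, -, rfl⟩ := Finset.mem_image.mp hA
      exact hFc k
    rw [← h1, hfullW, Finset.card_erase_of_mem (Finset.mem_univ _), Finset.card_univ, DihedralGroup.card]
  have hcard2 : 𝒯.card * (traceSet T).card = m - 1 := by
    have htrF : ∀ k, (traceSet (F k)).card = (traceSet T).card := fun k => by
      refine (Finset.card_bij (fun i _ => (k : ZMod m) * i)
        (fun i hi => mem_traceSet.mpr ((hFt k i).mpr (mem_traceSet.mp hi)))
        (fun i _ j _ e => (Units.mul_right_inj k).mp e) (fun j hj => ?_)).symm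
      refine ⟨((k⁻¹ : (ZMod m)ˣ) : ZMod m) * j, mem_traceSet.mpr ((hFt k _).mp ?_), by simp⟩
      rw [Units.mul_inv_cancel_left]
      exact mem_traceSet.mp hj
    have h1 : traceSet W = 𝒯.biUnion traceSet := by
      ext i
      simp [mem_traceSet, hW]
    have h2 : (traceSet W).card = 𝒯.card * (traceSet T).card := by
      rw [h1, Finset.card_biUnion fun A hA B hB hAB => Finset.disjoint_left.mpr fun i hiA hiB =>
        Finset.disjoint_left.mp (hdisj A hA B hB hAB) (mem_traceSet.mp hiA) (mem_traceSet.mp hiB),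
        Finset.sum_const_nat]
      intro A hA
      obtain ⟨k, -, rfl⟩ := Finset.mem_image.mp hA
      exact htrF k
    have h3 : traceSet W = Finset.univ.erase 0 := by
      ext i
      simp [mem_traceSet, hfullW, DihedralGroup.one_def, -DihedralGroup.r_zero]
    rw [← h2, h3, Finset.card_erase_of_mem (Finset.mem_univ _), Finset.card_univ, ZMod.card]
  have hm := hI.two_le
  have hN1 : 𝒯.card = 1 := by
    have hd : 𝒯.card ∣ 1 := by
      have h1 : 2 * m - 1 = 1 + 2 * (m - 1) := by omega
      have := Dvd.intro _ hcard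
      rw [h1] at this
      exact (Nat.dvd_add_left (Dvd.dvd.mul_left (Dvd.intro _ hcard2) 2)).mp this
    exact Nat.dvd_one.mp hd
  rw [hN1, one_mul] at hcard
  have hsub : V ⊆ Finset.univ.erase 1 := fun c hc =>
    Finset.mem_erase.mpr ⟨fun e => hV1 (e ▸ hc), Finset.mem_univ _⟩
  refine Finset.eq_of_subset_of_card_le hsub ?_
  rw [Finset.card_erase_of_mem (Finset.mem_univ _), Finset.card_univ, DihedralGroup.card, ← hcard]
  exact hTmin V hV hV1 hVne

end CfsgLib.SchurDihedral
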